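import Cfsg.Agent.Lib.SmallDegree.TruncExp
import Cfsg.Agent.Lib.DerivedLength.LinearPGroup
import Mathlib.LinearAlgebra.Trace
import Mathlib.LinearAlgebra.FreeModule.Finite.Matrix
import Mathlib.Algebra.Algebra.Bilinear
import Mathlib.RingTheory.Nilpotent.Lemmas

/-!
# A three-dimensional summand of the adjoint module of a unipotent normaliser

For a unipotent `x` acting with nilpotency index `n + 1` and a `p'`-group `H` normalising `⟨x⟩`,
`exists_projection` gives an idempotent of `End V`, self-adjoint for the trace form and commuting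
with `x` and `H`, whose image is the span of an `sl₂`-triple around the logarithm of `x`.
-/

set_option autoImplicit false
set_option linter.style.haveILetI false

namespace Cfsg.Agent.SmallDegree

open Finset DerivedLength

universe u v w

section Ring

variable {K : Type v} [Field K] {A : Type w} [Ring A] [Algebra K A] (E σ : A) (n : ℕ)

/-- The monomials `E ^ a σ E ^ b`. -/
def mon (a b : ℕ) : A := E ^ a * σ * E ^ b

theorem E_mul_mon (a b : ℕ) : E * mon E σ a b = mon E σ (a + 1) b := by
  simp [mon, pow_succ', mul_assoc]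

theorem mon_mul_E (a b : ℕ) : mon E σ a b * E = mon E σ a (b + 1) := by
  simp [mon, pow_succ, mul_assoc]

theorem mon_eq_zero (hE : E ^ (n + 1) = 0) (a b : ℕ) (h : n < a ∨ n < b) : mon E σ a b = 0 := by
  rcases h with h | h <;> simp [mon, pow_eq_zero_of_le h hE]

theorem mon_mul_mon (hE : E ^ (n + 1) = 0) (hσ : ∀ r < n, σ * E ^ r * σ = 0)
    (hσn : σ * E ^ n * σ = σ) (a b c d : ℕ) :
    mon E σ a b * mon E σ c d = if b + c = n then mon E σ a d else 0 := by
  have : mon E σ a b * mon E σ c d = E ^ a * (σ * E ^ (b + c) * σ) * E ^ d := by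
    simp [mon, pow_add, mul_assoc]
  rw [this]
  rcases lt_trichotomy (b + c) n with h | h | h
  · rw [if_neg h.ne, hσ _ h, mul_zero, zero_mul]
  · rw [if_pos h, h, hσn, mon]
  · rw [if_neg h.ne', pow_eq_zero_of_le h hE]
    simp

/-- The raising element. -/
def triE : A := ∑ i ∈ range n, mon E σ (i + 1) (n - i)

/-- The semisimple element. -/
def triH : A := ∑ i ∈ range (n + 1), ((n : K) - 2 * (i : K)) • mon E σ i (n - i)

/-- The lowering element. -/
def triF : A := ∑ i ∈ range n, (((i + 1) * (n - i) : ℕ) : K) • mon E σ i (n - 1 - i)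

variable {E σ n}

theorem bracket_E (hE : E ^ (n + 1) = 0) : E * triE E σ n = triE E σ n * E := by
  simp only [triE, mul_sum, sum_mul, E_mul_mon, mon_mul_E]
  rcases n with _ | n
  · simp
  rw [sum_range_succ, sum_range_succ']
  rw [mon_eq_zero E σ (n + 1) hE (n + 1 + 1) _ (Or.inl (by omega)),
    mon_eq_zero E σ (n + 1) hE (0 + 1) _ (Or.inr (by omega))]
  simp only [add_zero]
  refine sum_congr rfl fun i hi => ?_
  have := mem_range.1 hi
  congr 1
  omega

theorem bracket_H (hE : E ^ (n + 1) = 0) :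
    E * triH (K := K) E σ n = triH (K := K) E σ n * E + (2 : K) • triE E σ n := by
  simp only [triH, triE, mul_sum, sum_mul, mul_smul_comm, smul_mul_assoc, E_mul_mon, mon_mul_E,
    smul_sum]
  rw [sum_range_succ, mon_eq_zero E σ n hE (n + 1) _ (Or.inl (by omega)), smul_zero, add_zero,
    sum_range_succ', mon_eq_zero E σ n hE 0 (n - 0 + 1) (Or.inr (by omega)), smul_zero, add_zero,
    ← sum_add_distrib]
  refine sum_congr rfl fun i hi => ?_
  have := mem_range.1 hi
  rw [show n - (i + 1) + 1 = n - i by omega, ← add_smul]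
  congr 1
  push_cast
  ring

theorem bracket_F (hE : E ^ (n + 1) = 0) :
    E * triF (K := K) E σ n = triF (K := K) E σ n * E + -triH (K := K) E σ n := by
  simp only [triF, triH, mul_sum, sum_mul, mul_smul_comm, smul_mul_assoc, E_mul_mon, mon_mul_E]
  have h1 : ∑ i ∈ range n, (((i + 1) * (n - i) : ℕ) : K) • mon E σ (i + 1) (n - 1 - i) =
      ∑ i ∈ range (n + 1), ((i * (n + 1 - i) : ℕ) : K) • mon E σ i (n - i) := by
    rw [sum_range_succ' (fun i => ((i * (n + 1 - i) : ℕ) : K) • mon E σ i (n - i))]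
    simp only [Nat.zero_mul, Nat.cast_zero, zero_smul, add_zero]
    refine sum_congr rfl fun i hi => ?_
    have := mem_range.1 hi
    rw [show n + 1 - (i + 1) = n - i by omega, show n - (i + 1) = n - 1 - i by omega]
  have h2 : ∑ i ∈ range n, (((i + 1) * (n - i) : ℕ) : K) • mon E σ i (n - 1 - i + 1) =
      ∑ i ∈ range (n + 1), (((i + 1) * (n - i) : ℕ) : K) • mon E σ i (n - i) := by
    rw [sum_range_succ]
    simp only [Nat.sub_self, Nat.mul_zero, Nat.cast_zero, zero_smul, add_zero]
    refine sum_congr rfl fun i hi => ?_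
    have := mem_range.1 hi
    rw [show n - 1 - i + 1 = n - i by omega]
  rw [h1, h2, ← sub_eq_add_neg, ← sum_sub_distrib]
  refine sum_congr rfl fun i hi => ?_
  have := mem_range.1 hi
  rw [← sub_smul]
  congr 1
  rw [Nat.cast_mul, Nat.cast_mul, Nat.cast_sub (by omega : i ≤ n + 1), Nat.cast_sub (by omega : i ≤ n)]
  push_cast
  ring

end Ring

section Projection

variable {K : Type v} [Field K] {G : Type u} [Group G] {V : Type w} [AddCommGroup V] [Module K V]

/-- The conjugation action on endomorphisms. -/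
def adAct (θ : G →* Module.End K V) : G →* Module.End K (Module.End K V) where
  toFun g := LinearMap.mulLeft K (θ g) * LinearMap.mulRight K (θ g⁻¹)
  map_one' := LinearMap.ext fun Y => by simp
  map_mul' a b := LinearMap.ext fun Y => by simp [mul_assoc]

theorem adAct_apply (θ : G →* Module.End K V) (g : G) (Y : Module.End K V) :
    adAct θ g Y = θ g * Y * θ g⁻¹ := by simp [adAct, mul_assoc]

theorem adAct_eq (θ : G →* Module.End K V) {g : G} {Y Z : Module.End K V}
    (h : θ g * Y = Z * θ g) : adAct θ g Y = Z := by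
  rw [adAct_apply, h, mul_assoc, ← map_mul, mul_inv_cancel, map_one, mul_one]

theorem trace_adAct (θ : G →* Module.End K V) (g : G) (Y Z : Module.End K V) :
    LinearMap.trace K V (adAct θ g Y * Z) = LinearMap.trace K V (Y * adAct θ g⁻¹ Z) := by
  rw [adAct_apply, adAct_apply, inv_inv,
    show θ g * Y * θ g⁻¹ * Z = θ g * (Y * (θ g⁻¹ * Z)) by simp [mul_assoc],
    LinearMap.trace_mul_comm]
  simp [mul_assoc]

/-- Commuting nilpotents give a unipotent conjugation. -/
theorem adAct_sub_one_pow (θ : G →* Module.End K V) {x : G} {n : ℕ}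
    (h : (θ x - 1) ^ (n + 1) = 0) : (adAct θ x - 1) ^ (2 * n + 1) = 0 := by
  have hy : (θ x⁻¹ - 1) ^ (n + 1) = 0 := by
    have e : θ x⁻¹ - 1 = -θ x⁻¹ * (θ x - 1) := by
      rw [neg_mul, mul_sub, mul_one, ← map_mul, inv_mul_cancel, map_one, neg_sub]
    have hc : Commute (-θ x⁻¹) (θ x - 1) := by
      refine Commute.neg_left (Commute.sub_right ?_ (Commute.one_right _))
      show θ x⁻¹ * θ x = θ x * θ x⁻¹
      rw [← map_mul, ← map_mul, inv_mul_cancel, mul_inv_cancel]
    rw [e, hc.mul_pow, h, mul_zero]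
  set L := LinearMap.mulLeft K (θ x)
  set R := LinearMap.mulRight K (θ x⁻¹)
  have hLR : Commute L R := LinearMap.ext fun Y => by simp [L, R, mul_assoc]
  have e : adAct θ x - 1 = (L - 1) * R + (R - 1) := by
    show L * R - 1 = _
    rw [sub_mul, one_mul]; abel
  have h1 : ((L - 1) * R) ^ (n + 1) = 0 := by
    rw [Commute.mul_pow (hLR.sub_left (Commute.one_left R))]
    have : L - 1 = LinearMap.mulLeft K (θ x - 1) := LinearMap.ext fun Y => by simp [L, sub_mul]
    rw [this, LinearMap.pow_mulLeft, h, LinearMap.mulLeft_zero_eq_zero, zero_mul]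
  have h2 : (R - 1) ^ (n + 1) = 0 := by
    have : R - 1 = LinearMap.mulRight K (θ x⁻¹ - 1) := LinearMap.ext fun Y => by simp [R, mul_sub]
    rw [this, LinearMap.pow_mulRight, hy, LinearMap.mulRight_zero_eq_zero]
  rw [e]
  refine Commute.add_pow_eq_zero_of_add_le_succ_of_pow_eq_zero ?_ h1 h2 (by omega)
  exact (((hLR.sub_left (Commute.one_left R))).mul_left (Commute.refl R)).sub_right (Commute.one_right _)

variable [IsAlgClosed K] [FiniteDimensional K V] {p : ℕ} [hp : Fact p.Prime] [CharP K p]

theorem trace_mon (E σ : Module.End K V) (n : ℕ) (hE : E ^ (n + 1) = 0)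
    (hσ : ∀ r < n, σ * E ^ r * σ = 0) (a b : ℕ) (hab : a + b ≠ n) :
    LinearMap.trace K V (mon E σ a b) = 0 := by
  have e : LinearMap.trace K V (mon E σ a b) = LinearMap.trace K V (σ * E ^ (b + a)) := by
    rw [mon, mul_assoc, LinearMap.trace_mul_comm, pow_add, mul_assoc]
  rw [e]
  rcases lt_trichotomy (b + a) n with h | h | h
  · refine (LinearMap.isNilpotent_trace_of_isNilpotent ⟨2, ?_⟩).eq_zero
    rw [pow_two, ← mul_assoc, hσ _ h, zero_mul]
  · omega
  · rw [pow_eq_zero_of_le h hE, mul_zero, map_zero]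

omit [IsAlgClosed K] [FiniteDimensional K V] in
theorem six_sum_eq (n : ℕ) : 6 * ∑ i ∈ range n, (i + 1) * (n - i) = n * (n + 1) * (n + 2) := by
  have key : ∀ m M : ℕ, m ≤ M → 6 * (∑ i ∈ range m, (i + 1) * (M - i)) + 2 * m * (m + 1) * m =
      3 * M * m * (m + 1) + 2 * m * (m + 1) := by
    intro m
    induction m with
    | zero => simp
    | succ m ih =>
      intro M hM
      have := ih M (by omega)
      obtain ⟨d, rfl⟩ : ∃ d, M = m + 1 + d := ⟨M - (m + 1), by omega⟩
      rw [sum_range_succ, show m + 1 + d - m = 1 + d by omega]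
      nlinarith
  have := key n n le_rfl
  nlinarith

/-- The projection onto the span of the triple. -/
theorem exists_projection (θ : G →* Module.End K V) {x : G} (hxp : x ^ p = 1) (H : Subgroup G)
    [Finite H] (hH : (Nat.card H : K) ≠ 0) (hnorm : ∀ h ∈ H, ∃ a : ℕ, h * x * h⁻¹ = x ^ a)
    {n : ℕ} (hn : 1 ≤ n) (hnp : 2 * n + 1 < p) (hpow : (θ x - 1) ^ (n + 1) = 0)
    (hne : (θ x - 1) ^ n ≠ 0) (hdim : Module.finrank K V < p) :
    ∃ π : Module.End K (Module.End K V), π * π = π ∧
      (∀ h ∈ H, adAct θ h * π = π * adAct θ h) ∧ adAct θ x * π = π * adAct θ x ∧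
      (∀ Y Z, LinearMap.trace K V (π Y * Z) = LinearMap.trace K V (Y * π Z)) ∧
      π 1 = 0 ∧ Module.finrank K (LinearMap.range π) = 3 ∧
      (∀ Y ∈ LinearMap.range π, ((adAct θ x - 1) ^ 3 : Module.End K (Module.End K V)) Y = 0) ∧
      ∃ Y ∈ LinearMap.range π, ((adAct θ x - 1) ^ 2 : Module.End K (Module.End K V)) Y ≠ 0 := by
  classical
  have hp2 : p ≠ 2 := by omega
  set E := wOne K p (θ x) with hEdef
  obtain ⟨hE, hEn⟩ := wOne_pow_eq K p (θ x) hp2 hpow
  rw [← hEdef] at hE hEn
  have hX : tExp K p E = θ x := tExp_wOne K p (θ x) hp2 hpow (by omega)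
  have hθp : θ x ≠ 1 := fun h => hne (by rw [h, sub_self, zero_pow (by omega)])
  -- the normaliser scales `E`
  have hscale : ∀ h ∈ H, ∃ a : K, a ≠ 0 ∧ θ h * E = a • (E * θ h) := by
    intro h hh
    obtain ⟨a, ha⟩ := hnorm h hh
    refine ⟨(a : K), fun h0 => hθp ?_, ?_⟩
    · have hd := (CharP.cast_eq_zero_iff K p a).1 h0
      obtain ⟨b, rfl⟩ := hd
      have : x = 1 := by
        rw [pow_mul, hxp, one_pow] at ha
        have := congrArg (fun y => h⁻¹ * y * h) ha
        simpa [mul_assoc] using this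
      rw [this, map_one]
    · have hconj : ∀ c : ℕ, θ h * θ x ^ c = (θ x ^ a) ^ c * θ h := fun c => by
        rw [← map_pow, ← map_pow, ← map_mul, ← map_pow, ← map_mul]
        congr 1
        rw [← ha, conj_pow, inv_mul_cancel_right]
      have h1 : wOne K p (θ x ^ a) = (a : K) • E := by
        rw [← hX, tExp_pow K p E hE (by omega), wOne_tExp K p ((a : K) • E)
          (by rw [smul_pow, hE, smul_zero]) (by omega) hp2]
      have h2 : θ h * E = wOne K p (θ x ^ a) * θ h := by
        rw [hEdef]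
        simp only [wOne, mul_neg, neg_mul, mul_sum, sum_mul, mul_smul_comm, smul_mul_assoc, hconj]
      have h3 : θ h * E = (a : K) • (E * θ h) := by rw [h2, h1, smul_mul_assoc]
      exact h3
  have hscaleN : ∀ h ∈ H, ∀ {a : K}, θ h * E = a • (E * θ h) → ∀ i : ℕ,
      θ h * E ^ i = a ^ i • (E ^ i * θ h) := by
    intro h _ a ha i
    induction i with
    | zero => simp
    | succ i ih =>
      rw [pow_succ, ← mul_assoc, ih, smul_mul_assoc, mul_assoc, ha, mul_smul_comm, ← mul_assoc,
        smul_smul, ← pow_succ]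
  -- the actions of `H`
  set ρ : H →* Module.End K V := θ.comp H.subtype
  have hkerinv : Invariant ρ (LinearMap.ker (E ^ n)) := by
    intro h v hv
    obtain ⟨a, ha0, ha⟩ := hscale h h.2
    show (E ^ n) (θ h v) = 0
    have := LinearMap.congr_fun (hscaleN h h.2 ha n) v
    simp only [Module.End.mul_apply, LinearMap.smul_apply, show (E ^ n) v = 0 from hv, map_zero] at this
    exact (smul_eq_zero.1 this.symm).resolve_left (pow_ne_zero _ ha0)
  obtain ⟨M0, hM0, hcompl⟩ := exists_invariant_compl ρ hkerinv hH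
  have hinjM : ∀ m ∈ M0, (E ^ n) m = 0 → m = 0 := fun m hm h0 =>
    Submodule.disjoint_def.1 hcompl.disjoint m h0 hm
  set T := M0.map (E ^ n)
  let D : Submodule K V := ⨆ r : Fin n, M0.map (E ^ (r : ℕ))
  have hmapinv : ∀ r : ℕ, Invariant ρ (M0.map (E ^ r)) := by
    rintro r h _ ⟨m, hm, rfl⟩
    obtain ⟨a, ha0, ha⟩ := hscale h h.2
    have := LinearMap.congr_fun (hscaleN h h.2 ha r) m
    simp only [Module.End.mul_apply, LinearMap.smul_apply] at this
    show θ h ((E ^ r) m) ∈ _
    rw [this]
    exact Submodule.smul_mem _ _ (Submodule.mem_map_of_mem (hM0 h m hm))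
  have hDinv : Invariant ρ D := by
    intro h v hv
    refine Submodule.iSup_induction _ (motive := fun v => ρ h v ∈ D) hv (fun r v hv => ?_)
      (by show ρ h 0 ∈ D; rw [map_zero]; exact zero_mem _)
      (fun a b ha hb => by show ρ h (a + b) ∈ D; rw [map_add]; exact add_mem ha hb)
    exact Submodule.mem_iSup_of_mem r (hmapinv r h v hv)
  have hDT : ∀ v ∈ D, v ∈ T → v = 0 := by
    intro v hv hvT
    obtain ⟨μ, hμv, rfl⟩ := (Submodule.mem_iSup_iff_exists_finsupp _ v).1 hv
    obtain ⟨t, ht, hte⟩ := hvT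
    rw [Finsupp.sum_fintype _ _ (fun _ => rfl)] at hte ⊢
    choose m hm hme using fun r => hμv r
    by_contra hne0
    have hex : ∃ r : Fin n, m r ≠ 0 := by
      by_contra hall
      push Not at hall
      exact hne0 (sum_eq_zero fun r _ => by rw [← hme r, hall r, map_zero])
    have hlow : ∀ r : Fin n, m r = 0 := by
      intro r
      induction r using Fin.strong_induction_on with
      | _ r ih => ?_
      refine hinjM _ (hm r) ?_
      have h1 := congrArg (E ^ (n - (r : ℕ))) hte
      rw [map_sum, ← Module.End.mul_apply, ← pow_add, pow_eq_zero_of_le (by omega) hE,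
        LinearMap.zero_apply, sum_eq_single r] at h1
      · rw [← hme r, ← Module.End.mul_apply, ← pow_add, show n - (r : ℕ) + (r : ℕ) = n by omega] at h1
        exact h1.symm
      · intro s _ hs
        rw [← hme s]
        rcases lt_or_gt_of_ne (fun h : (s : ℕ) = r => hs (Fin.ext h)) with hlt | hgt
        · rw [ih s hlt, map_zero, map_zero]
        · rw [← Module.End.mul_apply, ← pow_add, pow_eq_zero_of_le (by omega) hE, LinearMap.zero_apply]
      · exact fun h => absurd (mem_univ r) h
    obtain ⟨r, hr⟩ := hex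
    exact hr (hlow r)
  obtain ⟨R, hRinv, hR⟩ := exists_invariant_compl ρ (W := D ⊔ T) (fun h v hv => by
    obtain ⟨a, ha, b, hb, rfl⟩ := Submodule.mem_sup.1 hv
    rw [map_add]
    exact add_mem (Submodule.mem_sup_left (hDinv h a ha)) (Submodule.mem_sup_right (hmapinv n h b hb))) hH
  set C0 := D ⊔ R
  have hC0inv : Invariant ρ C0 := fun h v hv => by
    obtain ⟨a, ha, b, hb, rfl⟩ := Submodule.mem_sup.1 hv
    rw [map_add]
    exact add_mem (Submodule.mem_sup_left (hDinv h a ha)) (Submodule.mem_sup_right (hRinv h b hb))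
  let e₀ : (C0 × M0) →ₗ[K] V := C0.subtype.coprod ((E ^ n).comp M0.subtype)
  have he₀ : Function.Bijective e₀ := by
    constructor
    · rw [← LinearMap.ker_eq_bot, Submodule.eq_bot_iff]
      rintro ⟨⟨c, hc⟩, ⟨m, hm⟩⟩ h0
      have h0' : c + (E ^ n) m = 0 := h0
      obtain ⟨d, hd, r, hr, rfl⟩ := Submodule.mem_sup.1 hc
      have hrS : r ∈ D ⊔ T := by
        have : r = -d + -(E ^ n) m := by
          rw [← sub_eq_zero, ← h0']; abel
        rw [this]
        exact add_mem (Submodule.mem_sup_left (neg_mem hd))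
          (Submodule.mem_sup_right (neg_mem (Submodule.mem_map_of_mem hm)))
      have hr0 := Submodule.disjoint_def.1 hR.disjoint r hrS hr
      subst hr0
      rw [add_zero] at h0'
      have hd0 := hDT d hd (by
        rw [eq_neg_of_add_eq_zero_left h0']
        exact neg_mem (Submodule.mem_map_of_mem hm))
      subst hd0
      rw [zero_add] at h0'
      have hm0 := hinjM m hm h0'
      subst hm0
      simp
    · intro v
      have hv : v ∈ (D ⊔ T) ⊔ R := hR.sup_eq_top ▸ Submodule.mem_top
      obtain ⟨s, hs, r, hr, rfl⟩ := Submodule.mem_sup.1 hv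
      obtain ⟨d, hd, t, ⟨m, hm, rfl⟩, rfl⟩ := Submodule.mem_sup.1 hs
      refine ⟨(⟨d + r, Submodule.add_mem_sup hd hr⟩, ⟨m, hm⟩), ?_⟩
      show d + r + (E ^ n) m = d + (E ^ n) m + r
      abel
  let e := LinearEquiv.ofBijective e₀ he₀
  let σ : Module.End K V := (M0.subtype.comp (LinearMap.snd K C0 M0)).comp e.symm.toLinearMap
  have hσC : ∀ c ∈ C0, σ c = 0 := fun c hc => by
    have : e.symm c = (⟨c, hc⟩, 0) := e.injective (by
      rw [LinearEquiv.apply_symm_apply]
      show c = c + (E ^ n) ((0 : M0) : V)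
      simp)
    show ((e.symm c).2 : V) = 0
    rw [this]
    rfl
  have hσT : ∀ m ∈ M0, σ ((E ^ n) m) = m := fun m hm => by
    have : e.symm ((E ^ n) m) = (0, ⟨m, hm⟩) := e.injective (by
      rw [LinearEquiv.apply_symm_apply]
      show (E ^ n) m = ((0 : C0) : V) + (E ^ n) m
      simp)
    show ((e.symm ((E ^ n) m)).2 : V) = m
    rw [this]
  have hσM : ∀ v, σ v ∈ M0 := fun v => (e.symm v).2.2
  have hσr : ∀ r < n, σ * E ^ r * σ = 0 := fun r hr => LinearMap.ext fun v => by
    simp only [Module.End.mul_apply, LinearMap.zero_apply]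
    exact hσC _ (Submodule.mem_sup_left (Submodule.mem_iSup_of_mem ⟨r, hr⟩
      (Submodule.mem_map_of_mem (hσM v))))
  have hσn : σ * E ^ n * σ = σ := LinearMap.ext fun v => hσT _ (hσM v)
  have hσh : ∀ h ∈ H, ∀ {a : K}, θ h * E = a • (E * θ h) → a ^ n • (θ h * σ) = σ * θ h := by
    intro h hh a ha
    refine LinearMap.ext fun v => ?_
    obtain ⟨⟨c, m⟩, rfl⟩ := e.surjective v
    show a ^ n • θ h (σ ((c : V) + (E ^ n) m)) = σ (θ h ((c : V) + (E ^ n) m))
    have h1 := LinearMap.congr_fun (hscaleN h hh ha n) (m : V)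
    simp only [Module.End.mul_apply, LinearMap.smul_apply] at h1
    simp only [map_add, h1, map_smul, hσC _ c.2, hσT _ m.2, map_zero,
      hσC (θ h (c : V)) (hC0inv ⟨h, hh⟩ _ c.2), hσT (θ h (m : V)) (hM0 ⟨h, hh⟩ _ m.2), zero_add]
  -- the triple
  set e1 := triE E σ n
  set hd := triH (K := K) E σ n
  set f := triF (K := K) E σ n
  set tr := LinearMap.trace K V
  have h2 : ((2 : K)) ≠ 0 := by
    have := cast_lt_ne_zero K p (j := 2) two_ne_zero (by omega)
    exact_mod_cast this
  have bE : E * e1 = e1 * E := bracket_E hE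
  have bH : E * hd = hd * E + (2 : K) • e1 := bracket_H hE
  have bF : E * f = f * E + -hd := bracket_F hE
  have cyc : ∀ Y Z : Module.End K V, tr (Y * Z) = tr (Z * Y) := fun Y Z => LinearMap.trace_mul_comm K Y Z
  have brk : ∀ Y Z : Module.End K V, tr ((E * Y - Y * E) * Z) = -tr (Y * (E * Z - Z * E)) := fun Y Z => by
    rw [sub_mul, mul_sub, map_sub, map_sub, mul_assoc E, cyc E, mul_assoc Y, mul_assoc Y E Z]
    ring
  have eH : (2 : K) • e1 = E * hd - hd * E := by rw [bH]; abel
  have eF : -hd = E * f - f * E := by rw [bF]; abel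
  have t11 : tr (e1 * e1) = 0 := by
    have := brk hd e1
    rw [← eH, bE, sub_self, mul_zero, map_zero, neg_zero, smul_mul_assoc, map_smul, smul_eq_mul] at this
    exact (mul_eq_zero.1 this).resolve_left h2
  have t1h : tr (e1 * hd) = 0 := by
    have := brk hd hd
    rw [← eH, smul_mul_assoc, map_smul, mul_smul_comm, map_smul, cyc hd e1] at this
    have h3 : (2 : K) • ((2 : K) * tr (e1 * hd)) = 0 := by
      simp only [smul_eq_mul] at this ⊢
      linear_combination this
    exact (mul_eq_zero.1 ((smul_eq_zero.1 h3).resolve_left h2)).resolve_left h2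
  have thf : tr (hd * f) = 0 := by
    have := brk f f
    rw [← eF, neg_mul, map_neg, mul_neg, map_neg, cyc f hd] at this
    have h3 : (2 : K) * tr (hd * f) = 0 := by linear_combination -this
    exact (mul_eq_zero.1 h3).resolve_left h2
  set τ := tr (e1 * f) with hτ
  have thh : tr (hd * hd) = 2 * τ := by
    have := brk f hd
    rw [← eF, ← eH, neg_mul, map_neg, mul_smul_comm, map_smul, smul_eq_mul, cyc f e1] at this
    linear_combination -this
  have hmon := mon_mul_mon E σ n hE hσr hσn
  have tff : tr (f * f) = 0 := by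
    simp only [f, triF, sum_mul, mul_sum, smul_mul_assoc, mul_smul_comm, map_sum, map_smul, hmon]
    refine sum_eq_zero fun i hi => ?_
    rw [smul_eq_mul]
    refine mul_eq_zero_of_right _ (sum_eq_zero fun j hj => ?_)
    have := mem_range.1 hi
    have := mem_range.1 hj
    split_ifs with h
    · rw [trace_mon E σ n hE hσr _ _ (by omega), smul_zero]
    · simp
  have he1tr : tr e1 = 0 := by
    rw [show e1 = ∑ i ∈ range n, mon E σ (i + 1) (n - i) from rfl, map_sum]
    exact sum_eq_zero fun i hi => trace_mon E σ n hE hσr _ _ (by have := mem_range.1 hi; omega)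
  have hftr : tr f = 0 := by
    simp only [f, triF, map_sum, map_smul]
    exact sum_eq_zero fun i hi => by
      rw [trace_mon E σ n hE hσr _ _ (by have := mem_range.1 hi; omega), smul_zero]
  have hhtr : tr hd = 0 := by
    have : tr (-hd) = 0 := by rw [eF, map_sub, cyc E, sub_self]
    simpa using this
  have hτ0 : τ ≠ 0 := by
    have hm : ∀ i, tr (mon E σ i (n - i)) = (Module.finrank K M0 : K) ∨ n < i := by
      intro i
      by_cases hi : n < i
      · exact Or.inr hi
      left
      have hproj : LinearMap.IsProj M0 (σ * E ^ n) :=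
        ⟨fun v => hσM _, fun m hm => hσT m hm⟩
      rw [← hproj.trace, mon, mul_assoc, LinearMap.trace_mul_comm, mul_assoc, ← pow_add,
        show n - i + i = n by omega]
    have hval : τ = (((∑ i ∈ range n, (i + 1) * (n - i)) : ℕ) : K) * (Module.finrank K M0 : K) := by
      rw [hτ, show e1 = ∑ i ∈ range n, mon E σ (i + 1) (n - i) from rfl]
      simp only [f, triF, mul_sum, sum_mul, mul_smul_comm, map_sum, map_smul, hmon, Nat.cast_sum,
        smul_eq_mul]
      refine sum_congr rfl fun i hi => ?_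
      have := mem_range.1 hi
      rw [sum_eq_single i (fun j hj hji => by
        have := mem_range.1 hj
        rw [if_neg (by omega), map_zero, mul_zero]) (fun h => absurd hi h)]
      rw [if_pos (by omega)]
      congr 1
      have h4 : n - 1 - i = n - (i + 1) := by omega
      rw [h4]
      exact (hm (i + 1)).resolve_right (by omega)
    intro h0
    rw [hval, mul_eq_zero] at h0
    have hM0ne : M0 ≠ ⊥ := fun hb => by
      refine hne ?_
      rw [← hEn]
      have : LinearMap.ker (E ^ n) = ⊤ := by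
        have := hcompl.sup_eq_top
        rwa [hb, sup_bot_eq] at this
      exact LinearMap.ker_eq_top.1 this
    rcases h0 with h0 | h0
    · have h6 : ((n * (n + 1) * (n + 2) : ℕ) : K) = 0 := by
        rw [← six_sum_eq, Nat.cast_mul, h0, mul_zero]
      have c1 := cast_lt_ne_zero K p (j := n) (by omega) (by omega)
      have c2 := cast_lt_ne_zero K p (j := n + 1) (by omega) (by omega)
      have c3 := cast_lt_ne_zero K p (j := n + 2) (by omega) (by omega)
      rw [Nat.cast_mul, Nat.cast_mul] at h6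
      exact mul_ne_zero (mul_ne_zero c1 c2) c3 h6
    · refine cast_lt_ne_zero K p ?_ (lt_of_le_of_lt (Submodule.finrank_le M0) hdim) h0
      rwa [Ne, Submodule.finrank_eq_zero]
  -- the projection
  have h2τ : (2 : K) * τ ≠ 0 := mul_ne_zero h2 hτ0
  let π : Module.End K (Module.End K V) :=
    { toFun := fun Y => (tr (Y * f) / τ) • e1 + (tr (Y * hd) / (2 * τ)) • hd + (tr (Y * e1) / τ) • f
      map_add' := fun Y Z => by
        simp only [add_mul, map_add, add_div, add_smul]
        abel
      map_smul' := fun c Y => by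
        simp only [smul_mul_assoc, map_smul, smul_eq_mul, mul_div_assoc, RingHom.id_apply, smul_add, smul_smul] }
  have hπ : ∀ Y, π Y = (tr (Y * f) / τ) • e1 + (tr (Y * hd) / (2 * τ)) • hd + (tr (Y * e1) / τ) • f :=
    fun Y => rfl
  have c1f : tr (f * e1) = τ := cyc f e1
  have ch1 : tr (hd * e1) = 0 := (cyc hd e1).trans t1h
  have cfh : tr (f * hd) = 0 := (cyc f hd).trans thf
  have p1 : π e1 = e1 := by
    rw [hπ, ← hτ, t1h, t11, div_self hτ0]
    simp
  have p2 : π hd = hd := by
    rw [hπ, thf, thh, ch1, div_self h2τ]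
    simp
  have p3 : π f = f := by
    rw [hπ, tff, cfh, c1f, div_self hτ0]
    simp
  have hπrange : ∀ Y, π (π Y) = π Y := fun Y => by
    conv_lhs => rw [hπ Y, map_add, map_add, map_smul, map_smul, map_smul, p1, p2, p3]
    exact (hπ Y).symm
  let S : Submodule K (Module.End K V) := LinearMap.range π
  have e1S : e1 ∈ S := ⟨e1, p1⟩
  have hdS : hd ∈ S := ⟨hd, p2⟩
  have fS : f ∈ S := ⟨f, p3⟩
  have hself : ∀ Y Z, tr (π Y * Z) = tr (Y * π Z) := fun Y Z => by
    rw [hπ, hπ]
    simp only [add_mul, mul_add, smul_mul_assoc, mul_smul_comm, map_add, map_smul, smul_eq_mul,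
      cyc e1 Z, cyc hd Z, cyc f Z]
    ring
  have hπS : ∀ Y ∈ S, π Y = Y := by
    rintro _ ⟨Y, rfl⟩
    exact hπrange Y
  -- commutation with automorphisms preserving the span
  have hcomm : ∀ g : G, (∀ Y ∈ ({e1, hd, f} : Set (Module.End K V)), adAct θ g Y ∈ S ∧ adAct θ g⁻¹ Y ∈ S) →
      adAct θ g * π = π * adAct θ g := by
    intro g hg
    have hgen : ∀ Y ∈ S, adAct θ g Y ∈ S ∧ adAct θ g⁻¹ Y ∈ S := by
      rintro _ ⟨Y, rfl⟩
      rw [hπ]
      simp only [map_add, map_smul]
      exact ⟨add_mem (add_mem (Submodule.smul_mem _ _ (hg e1 (by simp)).1)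
          (Submodule.smul_mem _ _ (hg hd (by simp)).1)) (Submodule.smul_mem _ _ (hg f (by simp)).1),
        add_mem (add_mem (Submodule.smul_mem _ _ (hg e1 (by simp)).2)
          (Submodule.smul_mem _ _ (hg hd (by simp)).2)) (Submodule.smul_mem _ _ (hg f (by simp)).2)⟩
    refine LinearMap.ext fun Y => ?_
    simp only [Module.End.mul_apply]
    have hpair : ∀ Z ∈ S, tr (adAct θ g (π Y) * Z) = tr (π (adAct θ g Y) * Z) := fun Z hZ => by
      rw [trace_adAct, hself, hself, hπS Z hZ, trace_adAct, hπS _ ((hgen Z hZ).2)]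
    have hL : π (adAct θ g (π Y)) = adAct θ g (π Y) := hπS _ (hgen _ ⟨Y, rfl⟩).1
    have hext : ∀ Z Z' : Module.End K V, (∀ W ∈ S, tr (Z * W) = tr (Z' * W)) → π Z = π Z' :=
      fun Z Z' h => by rw [hπ Z, hπ Z', h e1 e1S, h hd hdS, h f fS]
    rw [← hL, ← hπrange (adAct θ g Y)]
    exact hext _ _ hpair
  -- the image of the generators
  have hXe : adAct θ x e1 = e1 := adAct_eq θ (by
    rw [← hX]
    have := tExp_mul_eq K p E hE (by omega) hp2 (Y := e1) (D := 0) (D' := 0) (by rw [add_zero]; exact bE)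
      (by simp) (by simp)
    simpa using this)
  have hXh : adAct θ x hd = hd + (2 : K) • e1 := adAct_eq θ (by
    rw [← hX]
    have := tExp_mul_eq K p E hE (by omega) hp2 (Y := hd) (D := (2 : K) • e1) (D' := 0) bH
      (by rw [add_zero, mul_smul_comm, smul_mul_assoc, bE]) (by simp)
    simpa using this)
  have hXf : adAct θ x f = f + -hd + -e1 := adAct_eq θ (by
    rw [← hX]
    have := tExp_mul_eq K p E hE (by omega) hp2 (Y := f) (D := -hd) (D' := -((2 : K) • e1)) bF
      (by rw [mul_neg, bH, neg_mul, neg_add]) (by rw [mul_neg, neg_mul, mul_smul_comm, smul_mul_assoc, bE])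
    rw [smul_neg, smul_smul, inv_mul_cancel₀ h2, one_smul] at this
    exact this)
  have hXstab : ∀ Y ∈ S, adAct θ x Y ∈ S := by
    rintro _ ⟨Y, rfl⟩
    rw [hπ]
    simp only [map_add, map_smul, hXe, hXh, hXf]
    exact add_mem (add_mem (Submodule.smul_mem _ _ e1S)
      (Submodule.smul_mem _ _ (add_mem hdS (Submodule.smul_mem _ _ e1S))))
      (Submodule.smul_mem _ _ (add_mem (add_mem fS (neg_mem hdS)) (neg_mem e1S)))
  have hxinv : x⁻¹ = x ^ (p - 1) := by
    refine inv_eq_of_mul_eq_one_right ?_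
    rw [← pow_succ', show p - 1 + 1 = p by omega, hxp]
  have hXpow : ∀ i : ℕ, ∀ Y ∈ S, adAct θ (x ^ i) Y ∈ S := fun i => by
    induction i with
    | zero => intro Y hY; rw [pow_zero, map_one]; exact hY
    | succ i ih => intro Y hY; rw [pow_succ, map_mul, Module.End.mul_apply]; exact ih _ (hXstab Y hY)
  have hHmon : ∀ h ∈ H, ∀ {a : K}, a ≠ 0 → θ h * E = a • (E * θ h) → ∀ i j : ℕ,
      adAct θ h (mon E σ i j) = (a ^ i * (a ^ n)⁻¹ * a ^ j) • mon E σ i j := by
    intro h hh a ha0 ha i j
    refine adAct_eq θ ?_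
    have hs : θ h * σ = (a ^ n)⁻¹ • (σ * θ h) := by
      rw [← hσh h hh ha, smul_smul, inv_mul_cancel₀ (pow_ne_zero _ ha0), one_smul]
    rw [mon, ← mul_assoc, ← mul_assoc, hscaleN h hh ha i, smul_mul_assoc, mul_assoc (E ^ i), hs,
      mul_smul_comm, smul_smul, smul_mul_assoc, ← mul_assoc (E ^ i), mul_assoc (E ^ i * σ),
      hscaleN h hh ha j, mul_smul_comm, smul_smul, smul_mul_assoc, ← mul_assoc]
  have hHstab : ∀ h ∈ H, ∀ Y ∈ ({e1, hd, f} : Set (Module.End K V)), adAct θ h Y ∈ S := by
    intro h hh Y hY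
    obtain ⟨a, ha0, ha⟩ := hscale h hh
    have hsc : ∀ (s : Finset ℕ) (c : ℕ → K) (i j : ℕ → ℕ) (r : K),
        (∀ t ∈ s, a ^ i t * (a ^ n)⁻¹ * a ^ j t = r) →
        adAct θ h (∑ t ∈ s, c t • mon E σ (i t) (j t)) = r • ∑ t ∈ s, c t • mon E σ (i t) (j t) := by
      intro s c i j r hr
      rw [map_sum, smul_sum]
      refine sum_congr rfl fun t ht => ?_
      rw [map_smul, hHmon h hh ha0 ha, hr t ht, smul_comm]
    simp only [Set.mem_insert_iff, Set.mem_singleton_iff] at hY
    have han : a ^ n ≠ 0 := pow_ne_zero _ ha0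
    rcases hY with rfl | rfl | rfl
    · have := hsc (range n) (fun _ => 1) (fun t => t + 1) (fun t => n - t) a (fun t ht => by
        have := mem_range.1 ht
        rw [mul_right_comm, ← pow_add, show t + 1 + (n - t) = n + 1 by omega, pow_succ', mul_assoc,
          mul_inv_cancel₀ han, mul_one])
      simp only [one_smul] at this
      show adAct θ h (triE E σ n) ∈ S
      rw [triE, this]
      exact Submodule.smul_mem _ _ e1S
    · show adAct θ h (triH (K := K) E σ n) ∈ S
      rw [triH, hsc (range (n + 1)) _ (fun t => t) (fun t => n - t) 1 (fun t ht => by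
        have := mem_range.1 ht
        rw [mul_right_comm, ← pow_add, show t + (n - t) = n by omega, mul_inv_cancel₀ han])]
      exact Submodule.smul_mem _ _ hdS
    · show adAct θ h (triF (K := K) E σ n) ∈ S
      rw [triF, hsc (range n) _ (fun t => t) (fun t => n - 1 - t) a⁻¹ (fun t ht => by
        have := mem_range.1 ht
        obtain ⟨m, rfl⟩ : ∃ m, n = m + 1 := ⟨n - 1, by omega⟩
        rw [mul_right_comm, ← pow_add, show t + (m + 1 - 1 - t) = m by omega, pow_succ, mul_inv,
          ← mul_assoc, mul_inv_cancel₀ (pow_ne_zero m ha0), one_mul])]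
      exact Submodule.smul_mem _ _ fS
  refine ⟨π, LinearMap.ext hπrange, fun h hh => hcomm h fun Y hY =>
      ⟨hHstab h hh Y hY, hHstab h⁻¹ (inv_mem hh) Y hY⟩,
    hcomm x fun Y hY => ?_, hself, ?_, ?_, ?_, ?_⟩
  · have hYS : Y ∈ S := by
      simp only [Set.mem_insert_iff, Set.mem_singleton_iff] at hY
      rcases hY with rfl | rfl | rfl
      exacts [e1S, hdS, fS]
    exact ⟨hXstab Y hYS, hxinv ▸ hXpow _ Y hYS⟩
  · rw [hπ, one_mul, one_mul, one_mul, hftr, hhtr, he1tr]
    simp
  · have hrange : LinearMap.range π = Submodule.span K (Set.range ![e1, hd, f]) := by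
      refine le_antisymm ?_ (Submodule.span_le.2 ?_)
      · rintro _ ⟨Y, rfl⟩
        rw [hπ]
        refine add_mem (add_mem ?_ ?_) ?_ <;> refine Submodule.smul_mem _ _ (Submodule.subset_span ?_)
        exacts [⟨0, rfl⟩, ⟨1, rfl⟩, ⟨2, rfl⟩]
      · rintro _ ⟨i, rfl⟩
        fin_cases i
        exacts [e1S, hdS, fS]
    rw [hrange, finrank_span_eq_card, Fintype.card_fin]
    rw [Fintype.linearIndependent_iff]
    intro g hg
    simp only [Fin.sum_univ_three, Matrix.cons_val_zero, Matrix.cons_val_one, Matrix.cons_val] at hg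
    have h0 := congrArg (fun Y => tr (Y * f)) hg
    have h1 := congrArg (fun Y => tr (Y * hd)) hg
    have h2' := congrArg (fun Y => tr (Y * e1)) hg
    simp only [add_mul, smul_mul_assoc, map_add, map_smul, smul_eq_mul, zero_mul, map_zero, ← hτ, thf,
      tff, mul_zero, add_zero, t1h, thh, cfh, t11, ch1, c1f, zero_add] at h0 h1 h2'
    intro i
    fin_cases i
    · exact (mul_eq_zero.1 h0).resolve_right hτ0
    · exact (mul_eq_zero.1 h1).resolve_right h2τ
    · exact (mul_eq_zero.1 h2').resolve_right hτ0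
  · rintro _ ⟨Y, rfl⟩
    have d1 : (adAct θ x - 1) e1 = 0 := by simp [hXe]
    have d2 : (adAct θ x - 1) hd = (2 : K) • e1 := by simp [hXh]
    have d3 : (adAct θ x - 1) f = -hd + -e1 := by simp [hXf, add_assoc]
    rw [hπ, pow_succ, pow_two]
    simp only [Module.End.mul_apply, map_add, map_smul, map_neg, d1, d2, d3, smul_zero, map_zero,
      neg_zero, add_zero]
  · refine ⟨f, fS, ?_⟩
    have d1 : (adAct θ x - 1) e1 = 0 := by simp [hXe]
    have d2 : (adAct θ x - 1) hd = (2 : K) • e1 := by simp [hXh]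
    have d3 : (adAct θ x - 1) f = -hd + -e1 := by simp [hXf, add_assoc]
    rw [pow_two, Module.End.mul_apply, d3, map_add, map_neg, map_neg, d1, d2, neg_zero, add_zero,
      neg_ne_zero]
    intro h0
    refine hτ0 ?_
    rw [hτ, (smul_eq_zero.1 h0).resolve_left h2, zero_mul, map_zero]

end Projection

end Cfsg.Agent.SmallDegree
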