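import Cfsg.Agent.Lib.SmallDegree.Conic
import Mathlib.GroupTheory.GroupAction.Quotient
import Mathlib.Algebra.BigOperators.Ring.Finset
import Mathlib.Algebra.CharP.Algebra
import Mathlib.Combinatorics.Enumerative.DoubleCounting

/-!
# Counting fixed points on the conic

`le_two_mul_relIndex`: a finite isometry group of the conic with non-normal, regular unipotent,
normally generating Sylow `p`-subgroup `P` of order `p` has `p - 1 ≤ 2 |N(P) : C(P)|`.
-/

set_option autoImplicit false
set_option linter.style.haveILetI false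

namespace Cfsg.Agent.SmallDegree

open Finset
open scoped Pointwise

universe u v w

theorem mem_of_pow_prime_eq_one {G : Type u} [Group G] [Finite G] {p : ℕ} [hp : Fact p.Prime]
    {P : Subgroup G} (hP : Nat.card P = p) (hsq : ¬ p ^ 2 ∣ Nat.card G) {y : G}
    (hy : y ∈ Subgroup.normalizer (P : Set G)) (hyp : y ^ p = 1) : y ∈ P := by
  by_contra hmem
  have hord : orderOf y = p := orderOf_eq_prime hyp fun h => hmem (h ▸ one_mem P)
  have hyP : IsPGroup p (Subgroup.zpowers y) := IsPGroup.of_card (n := 1) (by rw [Nat.card_zpowers, hord, pow_one])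
  have hPP : IsPGroup p P := IsPGroup.of_card (n := 1) (by rw [hP, pow_one])
  have hsup : IsPGroup p (Subgroup.zpowers y ⊔ P : Subgroup G) :=
    hyP.to_sup_of_normal_right' hPP (Subgroup.zpowers_le.2 hy)
  obtain ⟨j, hj⟩ := IsPGroup.iff_card.1 hsup
  rcases Nat.lt_or_ge j 2 with h2 | h2
  · have hle : Nat.card (Subgroup.zpowers y ⊔ P : Subgroup G) ≤ Nat.card P := by
      rw [hj, hP]
      calc p ^ j ≤ p ^ 1 := Nat.pow_le_pow_right hp.out.pos (by omega)
        _ = p := pow_one p
    have he : P = Subgroup.zpowers y ⊔ P := Subgroup.eq_of_le_of_card_ge le_sup_right hle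
    exact hmem (he ▸ Subgroup.mem_sup_left (Subgroup.mem_zpowers y))
  · refine hsq (dvd_trans (pow_dvd_pow p h2) ?_)
    rw [← hj]
    exact Subgroup.card_subgroup_dvd_card _

variable {K : Type v} [Field K] [IsAlgClosed K] {W : Type w} [AddCommGroup W] [Module K W]
  [FiniteDimensional K W] {H : Type u} [Group H] [Finite H] {p : ℕ} [hp : Fact p.Prime] [CharP K p]

/-- The count: `C(P) = P`, and with `1 + k p` conjugates of `P`, `1 + k (p - 2)` divides `2 |N : C|`. -/
theorem conic_count (h3p : 3 ≤ p) (τ : H →* Module.End K W) (hinj : Function.Injective τ)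
    (B : LinearMap.BilinForm K W) (hiso : ∀ h v w, B (τ h v) (τ h w) = B v w)
    (hsymm : ∀ v w, B v w = B w v) (hnd : ∀ v, (∀ w, B v w = 0) → v = 0)
    (hdim : Module.finrank K W = 3) {P : Subgroup H} (hP : Nat.card P = p)
    (hsq : ¬ p ^ 2 ∣ Nat.card H) (hgen : Subgroup.normalClosure (P : Set H) = ⊤) (hnn : ¬ P.Normal)
    {x : H} (hx : Subgroup.zpowers x = P) (h3 : (τ x - 1) ^ 3 = 0) (h2' : (τ x - 1) ^ 2 ≠ 0) :
    Subgroup.centralizer (P : Set H) = P ∧ ∃ k : ℕ, 1 ≤ k ∧
      (Subgroup.normalizer (P : Set H)).index = 1 + k * p ∧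
      1 + k * (p - 2) ∣ 2 * (Subgroup.centralizer (P : Set H)).relIndex (Subgroup.normalizer (P : Set H)) ∧
      0 < (Subgroup.centralizer (P : Set H)).relIndex (Subgroup.normalizer (P : Set H)) := by
  classical
  haveI := Fintype.ofFinite H
  have h2 : (2 : K) ≠ 0 := fun h => by
    have := Nat.le_of_dvd (by norm_num) ((CharP.cast_eq_zero_iff K p 2).1 (by exact_mod_cast h))
    omega
  have hxP : x ∈ P := hx ▸ Subgroup.mem_zpowers x
  have hxord : orderOf x = p := by rw [← Nat.card_zpowers, hx, hP]
  have hx1 : x ≠ 1 := fun h => hp.out.ne_one (by rw [← hxord, h, orderOf_one])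
  have hzp : ∀ u ∈ P, ∃ a : ℕ, x ^ a = u := fun u hu =>
    mem_powers_iff_mem_zpowers.2 (hx.symm ▸ hu)
  -- determinant one
  have hdet : ∀ h, LinearMap.det (τ h) = 1 := by
    let d : H →* K := LinearMap.det.comp τ
    have hdx : ∀ u ∈ P, d u = 1 := fun u hu => by
      have h1 : u ^ p = 1 := by
        have := pow_card_eq_one' (x := (⟨u, hu⟩ : P))
        rw [hP] at this
        exact congrArg Subtype.val this
      have h2 : d u ^ p = 1 := by rw [← map_pow, h1, map_one]
      have h3 : (d u - 1) ^ p = 0 := by rw [sub_pow_char, one_pow, h2, sub_self]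
      exact sub_eq_zero.1 (eq_zero_of_pow_eq_zero h3)
    have hle : Subgroup.normalClosure (P : Set H) ≤ d.toHomUnits.ker :=
      Subgroup.normalClosure_le_normal fun u hu => by
        rw [SetLike.mem_coe, MonoidHom.mem_ker]
        exact Units.ext (hdx u hu)
    intro h
    have := congrArg Units.val (MonoidHom.mem_ker.1 (hle (hgen ▸ Subgroup.mem_top h)))
    exact this
  -- the Jordan chain of `x`
  set d := τ x - 1 with hd
  obtain ⟨z, hz⟩ : ∃ z, d (d z) ≠ 0 := by
    by_contra h0
    push Not at h0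
    exact h2' (LinearMap.ext fun z => by rw [pow_two]; exact h0 z)
  set e := d (d z) with hedef
  have hde : d e = 0 := by
    have := LinearMap.congr_fun h3 z
    simpa [pow_succ, Module.End.mul_apply] using this
  have hxe : τ x e = e := sub_eq_zero.1 hde
  have hadj : ∀ v w, τ x w = w → B (d v) w = 0 := fun v w hw => by
    have e1 : B (τ x v) w = B v w := by
      conv_lhs => rw [← hw, hiso]
    show B (τ x v - v) w = 0
    rw [map_sub, LinearMap.sub_apply, e1, sub_self]
  have hdze : B (d z) e = 0 := hadj z e hxe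
  have hee : B e e = 0 := hadj (d z) e hxe
  let ch : Fin 3 → W := ![z, d z, e]
  have hind : LinearIndependent K ch := by
    rw [Fintype.linearIndependent_iff]
    intro g hg
    simp only [ch, Fin.sum_univ_three, Matrix.cons_val_zero, Matrix.cons_val_one, Matrix.cons_val] at hg
    have e1 := congrArg (fun v => d (d v)) hg
    simp only [map_add, map_smul, ← hedef, hde, map_zero, smul_zero, add_zero] at e1
    have g0 : g 0 = 0 := (smul_eq_zero.1 e1).resolve_right hz
    rw [g0, zero_smul, zero_add] at hg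
    have e2 := congrArg d hg
    simp only [map_add, map_smul, ← hedef, hde, map_zero, smul_zero, add_zero] at e2
    have g1 : g 1 = 0 := (smul_eq_zero.1 e2).resolve_right hz
    rw [g1, zero_smul, zero_add] at hg
    have g2 : g 2 = 0 := (smul_eq_zero.1 hg).resolve_right hz
    intro i; fin_cases i
    exacts [g0, g1, g2]
  let bch := basisOfLinearIndependentOfCardEqFinrank hind (by rw [Fintype.card_fin, hdim])
  have hbch : ⇑bch = ch := coe_basisOfLinearIndependentOfCardEqFinrank _ _
  have hexp : ∀ v, ∃ a b c : K, v = a • z + b • d z + c • e := fun v => by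
    refine ⟨bch.repr v 0, bch.repr v 1, bch.repr v 2, ?_⟩
    conv_lhs => rw [← bch.sum_repr v]
    simp [hbch, ch, Fin.sum_univ_three]
  have hze : B z e ≠ 0 := by
    intro h0
    refine hz (hnd e fun v => ?_)
    obtain ⟨a, b, c, rfl⟩ := hexp v
    simp [hsymm e z, h0, hsymm e (d z), hdze, hee]
  have hker : ∀ v, d v = 0 → ∃ c : K, v = c • e := fun v hv => by
    obtain ⟨a, b, c, rfl⟩ := hexp v
    simp only [map_add, map_smul, ← hedef, hde, smul_zero, add_zero] at hv
    have e1 := congrArg d hv
    simp only [map_add, map_smul, ← hedef, hde, map_zero, smul_zero, add_zero] at e1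
    have ha : a = 0 := (smul_eq_zero.1 e1).resolve_right hz
    rw [ha, zero_smul, zero_add] at hv
    have hb : b = 0 := (smul_eq_zero.1 hv).resolve_right hz
    exact ⟨c, by rw [ha, hb, zero_smul, zero_smul, zero_add, zero_add]⟩
  set l0 : Submodule K W := K ∙ e
  have hxap : ∀ a : ℕ, (x ^ a) ^ p = 1 := fun a => by
    rw [← pow_mul, ← hxord, mul_comm, pow_mul, pow_orderOf_eq_one, one_pow]
  -- fixed points of elements of `P`
  have hfixx : ∀ a : ℕ, x ^ a ≠ 1 → fixLines τ B (x ^ a) = {l0} := by
    intro a ha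
    ext ℓ
    constructor
    · rintro ⟨⟨v, hv0, hvv, rfl⟩, hf⟩
      obtain ⟨μ, hμ⟩ := exists_eigen_of_fix τ hf
      have hμ1 : μ = 1 := by
        have hpow : ∀ i : ℕ, τ ((x ^ a) ^ i) v = μ ^ i • v := fun i => by
          induction i with
          | zero => simp
          | succ i ih => rw [pow_succ, tau_mul, hμ, map_smul, ih, smul_smul, pow_succ']
        have h1 := hpow p
        rw [← pow_mul, mul_comm, pow_mul, ← hxord, pow_orderOf_eq_one, one_pow, map_one,
          Module.End.one_apply, hxord] at h1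
        have h4 : (μ ^ p - 1) • v = 0 := by rw [sub_smul, one_smul, ← h1, sub_self]
        have h5 : (μ - 1) ^ p = 0 := by
          rw [sub_pow_char, one_pow, (smul_eq_zero.1 h4).resolve_right hv0]
        exact sub_eq_zero.1 (eq_zero_of_pow_eq_zero h5)
      rw [hμ1, one_smul] at hμ
      have hxv : τ x v = v := by
        have hx' : x ∈ Subgroup.zpowers (x ^ a) := by
          have hle : Subgroup.zpowers (x ^ a) ≤ P := Subgroup.zpowers_le.2 (pow_mem hxP a)
          have heq : Subgroup.zpowers (x ^ a) = P := Subgroup.eq_of_le_of_card_ge hle (by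
            rw [hP, Nat.card_zpowers, orderOf_eq_prime (hxap a) ha])
          rw [heq]; exact hxP
        obtain ⟨i, hi⟩ := mem_powers_iff_mem_zpowers.2 hx'
        simp only at hi
        rw [← hi]
        clear hi
        induction i with
        | zero => simp
        | succ i ih => rw [pow_succ, tau_mul, hμ, ih]
      obtain ⟨c, rfl⟩ := hker v (sub_eq_zero.2 hxv)
      have hc : c ≠ 0 := fun h0 => hv0 (by rw [h0, zero_smul])
      exact Submodule.span_singleton_smul_eq (Ne.isUnit hc) e
    · rintro rfl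
      refine ⟨⟨e, hz, hee, rfl⟩, fix_of_eigen τ (μ := 1) one_ne_zero ?_⟩
      rw [one_smul]
      clear ha
      induction a with
      | zero => simp
      | succ a ih => rw [pow_succ, tau_mul, hxe, ih]
  let P' : Sylow p H := Sylow.ofCard P (by
    rw [hP]
    have h1 : (Nat.card H).factorization p = 1 := by
      have hd1 : p ^ 1 ∣ Nat.card H := by rw [pow_one, ← hP]; exact Subgroup.card_subgroup_dvd_card P
      have a1 := (hp.out.pow_dvd_iff_le_factorization Nat.card_pos.ne').1 hd1
      have a2 : ¬ 2 ≤ (Nat.card H).factorization p := fun h =>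
        hsq ((hp.out.pow_dvd_iff_le_factorization Nat.card_pos.ne').2 h)
      omega
    rw [h1, pow_one])
  have hP' : (P' : Subgroup H) = P := Sylow.coe_ofCard _ _
  -- elements of order `p`
  have hconjP : ∀ u : H, u ^ p = 1 → u ≠ 1 → ∃ (g : H) (a : ℕ), u = g * x ^ a * g⁻¹ ∧ x ^ a ≠ 1 := by
    intro u hup hu1
    have hzu : IsPGroup p (Subgroup.zpowers u) := IsPGroup.of_card (n := 1)
      (by rw [Nat.card_zpowers, orderOf_eq_prime hup hu1, pow_one])
    obtain ⟨Q, hQ⟩ := hzu.exists_le_sylow
    obtain ⟨g, rfl⟩ := MulAction.exists_smul_eq H P' Q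
    have hu := hQ (Subgroup.mem_zpowers u)
    change u ∈ MulAut.conj g • (P' : Subgroup H) at hu
    rw [hP', Subgroup.mem_pointwise_smul_iff_inv_smul_mem] at hu
    obtain ⟨a, ha⟩ := hzp _ hu
    refine ⟨g, a, ?_, fun h1 => hu1 ?_⟩
    · rw [ha]; simp [mul_assoc]
    · rw [h1] at ha
      have h4 : g⁻¹ * u * g = 1 := by
        have := ha.symm
        simpa using this
      calc u = g * (g⁻¹ * u * g) * g⁻¹ := by group
        _ = 1 := by rw [h4]; group
  -- the flag stabiliser of `e`
  let InF : H → Prop := fun h => (∀ v, B (τ h v - v) e = 0) ∧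
    (∀ v, B v e = 0 → ∃ c : K, τ h v - v = c • e) ∧ τ h e = e
  let Sg : Subgroup H :=
    { carrier := {h | InF h}
      one_mem' := ⟨fun v => by simp, fun v _ => ⟨0, by simp⟩, by simp⟩
      mul_mem' := fun {a b} ha hb => by
        obtain ⟨a1, a2, a3⟩ := ha
        obtain ⟨b1, b2, b3⟩ := hb
        refine ⟨fun v => ?_, fun v hv => ?_, by rw [tau_mul, b3, a3]⟩
        · have : τ (a * b) v - v = (τ a (τ b v) - τ b v) + (τ b v - v) := by rw [tau_mul]; abel
          rw [this, map_add, LinearMap.add_apply, a1, b1, add_zero]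
        · obtain ⟨c, hc⟩ := b2 v hv
          obtain ⟨c', hc'⟩ := a2 v hv
          refine ⟨c + c', ?_⟩
          have hb' : τ b v = v + c • e := by rw [← hc]; abel
          rw [tau_mul, hb', map_add, map_smul, a3, add_smul, ← hc']
          abel
      inv_mem' := fun {a} ha => by
        have hpow : ∀ i : ℕ, InF (a ^ i) := fun i => by
          induction i with
          | zero => exact ⟨fun v => by simp, fun v _ => ⟨0, by simp⟩, by simp⟩
          | succ i ih =>
            obtain ⟨a1, a2, a3⟩ := ih
            obtain ⟨b1, b2, b3⟩ := ha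
            refine ⟨fun v => ?_, fun v hv => ?_, by rw [pow_succ, tau_mul, b3, a3]⟩
            · have : τ (a ^ (i + 1)) v - v = (τ (a ^ i) (τ a v) - τ a v) + (τ a v - v) := by
                rw [pow_succ, tau_mul]; abel
              rw [this, map_add, LinearMap.add_apply, a1, b1, add_zero]
            · obtain ⟨c, hc⟩ := b2 v hv
              obtain ⟨c', hc'⟩ := a2 v hv
              refine ⟨c + c', ?_⟩
              have hb' : τ a v = v + c • e := by rw [← hc]; abel
              rw [pow_succ, tau_mul, hb', map_add, map_smul, a3, add_smul, ← hc']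
              abel
        show InF a⁻¹
        rw [inv_eq_of_mul_eq_one_right (show a * a ^ (orderOf a - 1) = 1 by
          rw [← pow_succ', Nat.sub_add_cancel (orderOf_pos a), pow_orderOf_eq_one])]
        exact hpow _ }
  have hxS : x ∈ Sg := by
    refine ⟨fun v => hadj v e hxe, fun v hv => ?_, hxe⟩
    obtain ⟨a, b, c, rfl⟩ := hexp v
    have ha : a = 0 := by
      simp only [map_add, LinearMap.add_apply, map_smul, LinearMap.smul_apply, hdze, hee, smul_zero,
        add_zero, smul_eq_mul, mul_zero] at hv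
      exact (mul_eq_zero.1 hv).resolve_right hze
    refine ⟨b, ?_⟩
    show d _ = _
    simp [ha, map_add, map_smul, ← hedef, hde]
  have hSgp : ∀ h ∈ Sg, h ^ p = 1 := by
    intro h hh
    obtain ⟨a1, a2, a3⟩ := hh
    refine hinj ?_
    rw [map_pow, map_one]
    have h30 : (τ h - 1) ^ 3 = 0 := LinearMap.ext fun v => by
      obtain ⟨c, hc⟩ := a2 (τ h v - v) (a1 v)
      rw [show (3 : ℕ) = 1 + 1 + 1 from rfl, pow_succ, pow_succ, pow_one, Module.End.mul_apply,
        Module.End.mul_apply, LinearMap.zero_apply]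
      show (τ h - 1) ((τ h - 1) (τ h v - v)) = 0
      rw [show (τ h - 1) (τ h v - v) = c • e from hc, map_smul, LinearMap.sub_apply,
        Module.End.one_apply, a3, sub_self, smul_zero]
    haveI : Nontrivial W := ⟨⟨e, 0, hz⟩⟩
    haveI : CharP (Module.End K W) p := charP_of_injective_algebraMap
      (FaithfulSMul.algebraMap_injective K (Module.End K W)) p
    have h1 : (τ h - 1) ^ p = τ h ^ p - 1 := by
      rw [sub_pow_char_of_commute p (Commute.one_right _), one_pow]
    rw [pow_eq_zero_of_le h3p h30] at h1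
    exact sub_eq_zero.1 h1.symm
  have hSgP : Sg = P := by
    have hle : P ≤ Sg := hx ▸ Subgroup.zpowers_le.2 hxS
    refine (Subgroup.eq_of_le_of_card_ge hle ?_).symm
    have hSp : IsPGroup p Sg := fun s => ⟨1, Subtype.ext (by rw [pow_one]; exact hSgp s s.2)⟩
    obtain ⟨j, hj⟩ := IsPGroup.iff_card.1 hSp
    rw [hj, hP]
    rcases Nat.lt_or_ge j 2 with h | h
    · calc p ^ j ≤ p ^ 1 := Nat.pow_le_pow_right hp.out.pos (by omega)
        _ = p := pow_one p
    · exact absurd ((pow_dvd_pow p h).trans (hj ▸ Subgroup.card_subgroup_dvd_card Sg)) hsq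
  -- stabilisers
  let act : H → Submodule K W → Submodule K W := fun g ℓ => ℓ.map (τ g)
  letI : MulAction H (Submodule K W) :=
    { smul := act
      one_smul := line_map_one τ
      mul_smul := fun a b ℓ => line_map_mul τ a b ℓ }
  have hsmul : ∀ (g : H) (ℓ : Submodule K W), g • ℓ = ℓ.map (τ g) := fun g ℓ => rfl
  have hstabN : MulAction.stabilizer H l0 = Subgroup.normalizer (P : Set H) := by
    ext g
    rw [MulAction.mem_stabilizer_iff, hsmul]
    constructor
    · intro hg
      obtain ⟨μ, hμ⟩ := exists_eigen_of_fix τ hg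
      have hμ0 : μ ≠ 0 := fun h0 => hz (by
        show e = 0
        rw [← tau_inv_tau τ g e, hμ, h0, zero_smul, map_zero])
      have hperp : ∀ v, B v e = 0 → B (τ g v) e = 0 := fun v hv => by
        have := hiso g v e
        rw [hμ, map_smul, hv, smul_eq_mul] at this
        exact (mul_eq_zero.1 this).resolve_left hμ0
      have hmem : g * x * g⁻¹ ∈ Sg := by
        obtain ⟨a1, a2, a3⟩ := hxS
        have hinvE : τ g⁻¹ e = μ⁻¹ • e := by
          have := congrArg (τ g⁻¹) hμ
          rw [tau_inv_tau, map_smul] at this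
          conv_rhs => rw [this, smul_smul, inv_mul_cancel₀ hμ0, one_smul]
        have hconj : ∀ v, τ (g * x * g⁻¹) v - v = τ g (τ x (τ g⁻¹ v) - τ g⁻¹ v) := fun v => by
          rw [map_sub, tau_tau_inv, tau_mul, tau_mul]
        refine ⟨fun v => ?_, fun v hv => ?_, ?_⟩
        · rw [hconj]; exact hperp _ (a1 _)
        · have hv' : B (τ g⁻¹ v) e = 0 := by
            have := hiso g⁻¹ v e
            rw [hinvE, map_smul, hv, smul_eq_mul] at this
            exact (mul_eq_zero.1 this).resolve_left (inv_ne_zero hμ0)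
          obtain ⟨c, hc⟩ := a2 _ hv'
          exact ⟨c * μ, by rw [hconj, hc, map_smul, hμ, smul_smul]⟩
        · rw [tau_mul, tau_mul, hinvE, map_smul, a3, map_smul, hμ, smul_smul, inv_mul_cancel₀ hμ0,
            one_smul]
      rw [hSgP] at hmem
      rw [Subgroup.mem_normalizer_iff_map_conj_eq, ← hx, MonoidHom.map_zpowers]
      refine Subgroup.eq_of_le_of_card_ge (Subgroup.zpowers_le.2 ?_) (le_of_eq ?_)
      · rw [hx]; exact hmem
      · rw [Nat.card_zpowers, Nat.card_zpowers]
        exact (orderOf_injective (MulAut.conj g).toMonoidHom (MulAut.conj g).injective x).symm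
    · intro hg
      have hmem : g * x * g⁻¹ ∈ P := (Subgroup.mem_normalizer_iff.1 hg x).1 hxP
      obtain ⟨a, ha⟩ := hzp _ hmem
      have hne : x ^ a ≠ 1 := fun h1 => hx1 (by
        rw [h1] at ha
        have := ha.symm
        simpa using this)
      have h1 := hfixx a hne
      rw [ha, fixLines_conj τ B hiso, show x = x ^ 1 from (pow_one x).symm, hfixx 1 (by rwa [pow_one]),
        Set.image_singleton, Set.singleton_eq_singleton_iff] at h1
      exact h1
  have hcentP : Subgroup.centralizer (P : Set H) = P := by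
    refine le_antisymm (fun h hh => ?_) fun u hu w hw => ?_
    · have hcomm : x * h = h * x := Subgroup.mem_centralizer_iff.1 hh x hxP
      have hdh : ∀ v, d (τ h v) = τ h (d v) := fun v => by
        show τ x (τ h v) - τ h v = τ h (τ x v - v)
        rw [map_sub, ← tau_mul, ← tau_mul, hcomm]
      obtain ⟨a, b, c, habc⟩ := hexp (τ h z)
      have hhe : τ h e = a • e := by
        rw [hedef, ← hdh, ← hdh, habc]
        simp only [map_add, map_smul, ← hedef, hde, map_zero, smul_zero, add_zero]
      have hhdz : τ h (d z) = a • d z + b • e := by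
        rw [← hdh, habc]
        simp only [map_add, map_smul, ← hedef, hde, smul_zero, add_zero]
      have ha2 : a * a = 1 := by
        have := hiso h z e
        rw [habc, hhe, map_smul, map_add, map_add, LinearMap.add_apply, LinearMap.add_apply, map_smul,
          map_smul, map_smul, LinearMap.smul_apply, LinearMap.smul_apply, LinearMap.smul_apply, hdze,
          hee] at this
        simp only [smul_eq_mul, mul_zero, add_zero] at this
        have h4 : (a * a - 1) * B z e = 0 := by linear_combination this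
        exact sub_eq_zero.1 ((mul_eq_zero.1 h4).resolve_right hze)
      have hsub : (τ h - a • 1) ^ 3 = 0 := by
        refine bch.ext fun i => ?_
        rw [hbch]
        have k0 : (τ h - a • 1) z = b • d z + c • e := by
          simp [habc]; abel
        have k1 : (τ h - a • 1) (d z) = b • e := by simp [hhdz]
        have k2 : (τ h - a • 1) e = 0 := by simp [hhe]
        rw [show (3 : ℕ) = 1 + 1 + 1 from rfl, pow_succ, pow_succ, pow_one]
        fin_cases i <;> simp only [ch, Fin.zero_eta, Fin.mk_one, Fin.reduceFinMk, Matrix.cons_val_zero,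
          Matrix.cons_val_one, Matrix.cons_val, Module.End.mul_apply, k0, k1, k2, map_add, map_smul,
          map_zero, smul_zero, add_zero, LinearMap.zero_apply]
      haveI : Nontrivial W := ⟨⟨e, 0, hz⟩⟩
      haveI : CharP (Module.End K W) p := charP_of_injective_algebraMap
        (FaithfulSMul.algebraMap_injective K (Module.End K W)) p
      have hpp : τ h ^ p = a ^ p • 1 := by
        have h1 := sub_pow_char_of_commute (R := Module.End K W) (p := p) (x := τ h) (y := a • 1)
          ((Commute.one_right _).smul_right a)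
        rw [pow_eq_zero_of_le h3p hsub, smul_pow, one_pow] at h1
        exact sub_eq_zero.1 h1.symm
      have ha1 : a = 1 := by
        rcases mul_self_eq_one_iff.1 ha2 with h1 | h1
        · exact h1
        exfalso
        have h4 := hdet (h ^ p)
        rw [map_pow, hpp, h1, LinearMap.det_smul, map_one, mul_one, hdim,
          (hp.out.odd_of_ne_two (by omega)).neg_one_pow] at h4
        exact h2 (by linear_combination -h4)
      rw [← hSgP]
      have hhp : h ^ p = 1 := hinj (by rw [map_pow, hpp, ha1, one_pow, one_smul, map_one])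
      by_cases h1 : h = 1
      · rw [h1]; exact one_mem _
      rw [hSgP]
      exact mem_of_pow_prime_eq_one hP hsq (Subgroup.centralizer_le_normalizer _ hh) hhp
    · obtain ⟨i, rfl⟩ := hzp u hu
      obtain ⟨j, rfl⟩ := hzp w hw
      exact ((Commute.refl x).pow_pow j i).eq
  -- finiteness and counting
  set g := Fintype.card H with hg
  set N := Subgroup.normalizer (P : Set H)
  set idx := (Subgroup.centralizer (P : Set H)).relIndex N with hidx
  have hNcard : Nat.card N = p * idx := by
    rw [hidx, hcentP, ← hP, ← Subgroup.relIndex_bot_left, ← Subgroup.relIndex_bot_left,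
      Subgroup.relIndex_mul_relIndex _ _ _ bot_le Subgroup.le_normalizer]
  have hfin : ∀ h : H, h ≠ 1 → (fixLines τ B h).ncard = if h ^ p = 1 then 1 else 2 := by
    intro h h1
    split_ifs with hhp
    · obtain ⟨k, a, rfl, ha⟩ := hconjP h hhp h1
      rw [fixLines_conj τ B hiso, hfixx a ha, Set.image_singleton, Set.ncard_singleton]
    · have hnd' : ¬ p ∣ orderOf h := by
        intro hdvd
        refine hhp ?_
        obtain ⟨m, hm⟩ := hdvd
        have hm1 : h ^ m ≠ 1 := fun h0 => by
          have := Nat.le_of_dvd (Nat.pos_of_ne_zero fun h0' => by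
            rw [h0', mul_zero] at hm; exact (orderOf_pos h).ne' hm) (orderOf_dvd_of_pow_eq_one h0)
          rw [hm] at this
          nlinarith [hp.out.two_le, orderOf_pos h]
        have hmp : (h ^ m) ^ p = 1 := by rw [← pow_mul, mul_comm, ← hm, pow_orderOf_eq_one]
        obtain ⟨k, a, hk, ha⟩ := hconjP _ hmp hm1
        have hc : Commute (k⁻¹ * h * k) (x ^ a) := by
          have h2 : Commute h (h ^ m) := Commute.self_pow h m
          rw [hk] at h2
          have h3 := congrArg (fun y => k⁻¹ * y * k) h2.eq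
          show k⁻¹ * h * k * x ^ a = x ^ a * (k⁻¹ * h * k)
          simpa [mul_assoc] using h3
        have hx' : x ∈ Subgroup.zpowers (x ^ a) := by
          have heq : Subgroup.zpowers (x ^ a) = P := Subgroup.eq_of_le_of_card_ge
            (Subgroup.zpowers_le.2 (pow_mem hxP a)) (by
              rw [hP, Nat.card_zpowers, orderOf_eq_prime (hxap a) ha])
          rw [heq]; exact hxP
        have hmemC : k⁻¹ * h * k ∈ Subgroup.centralizer (P : Set H) := by
          rw [Subgroup.mem_centralizer_iff]
          intro w hw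
          obtain ⟨i, rfl⟩ := hzp w hw
          obtain ⟨j, hj⟩ := mem_powers_iff_mem_zpowers.2 hx'
          simp only at hj
          rw [← hj]
          exact (((hc.pow_right j).pow_right i)).eq.symm
        rw [hcentP] at hmemC
        obtain ⟨i, hi⟩ := hzp _ hmemC
        have h4 : h = k * x ^ i * k⁻¹ := by rw [hi]; group
        rw [h4, conj_pow, ← pow_mul, mul_comm i p, pow_mul, ← hxord, pow_orderOf_eq_one, one_pow,
          mul_one, mul_inv_cancel]
      exact ncard_fixLines_of_semisimple τ B hiso hsymm hnd hdim h2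
        (fun h0 => h1 (hinj (h0.trans (map_one τ).symm))) (hdet h) (pow_orderOf_eq_one h)
        (fun h0 => hnd' ((CharP.cast_eq_zero_iff K p _).1 h0))
  have hfinite : ∀ h : H, h ≠ 1 → (fixLines τ B h).Finite := fun h h1 =>
    Set.finite_of_ncard_pos (by rw [hfin h h1]; split_ifs <;> norm_num)
  have hXfin : {ℓ : Submodule K W | ∃ h : H, h ≠ 1 ∧ ℓ ∈ fixLines τ B h}.Finite := by
    have : {ℓ : Submodule K W | ∃ h : H, h ≠ 1 ∧ ℓ ∈ fixLines τ B h} =
        ⋃ h : {h : H // h ≠ 1}, fixLines τ B h.1 := by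
      ext ℓ; simp
    rw [this]
    exact Set.finite_iUnion fun h => hfinite h.1 h.2
  set X := hXfin.toFinset with hXdef
  have hXmem : ∀ ℓ, ℓ ∈ X ↔ ∃ h : H, h ≠ 1 ∧ ℓ ∈ fixLines τ B h := fun ℓ => Set.Finite.mem_toFinset _
  let U := (Finset.univ : Finset H).filter fun h => h ≠ 1
  -- double count
  have hdc : ∑ ℓ ∈ X, (U.filter fun h => h • ℓ = ℓ).card = ∑ h ∈ U, (fixLines τ B h).ncard := by
    have hbc := Finset.sum_card_bipartiteAbove_eq_sum_card_bipartiteBelow
      (r := fun (ℓ : Submodule K W) (h : H) => h • ℓ = ℓ) (s := X) (t := U)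
    simp only [Finset.bipartiteAbove, Finset.bipartiteBelow] at hbc
    rw [hbc]
    refine Finset.sum_congr rfl fun h hh => ?_
    have h1 : h ≠ 1 := (Finset.mem_filter.1 hh).2
    rw [Set.ncard_eq_toFinset_card _ (hfinite h h1)]
    congr 1
    ext ℓ
    simp only [Finset.mem_filter, Set.Finite.mem_toFinset, hXmem, hsmul]
    constructor
    · rintro ⟨⟨k, -, hkl, -⟩, hl⟩
      exact ⟨hkl, hl⟩
    · intro hl
      exact ⟨⟨h, h1, hl⟩, hl.2⟩
  haveI horbfin : ∀ ℓ : Submodule K W, Fintype (MulAction.orbit H ℓ) := fun ℓ =>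
    Set.fintypeRange fun h : H => h • ℓ
  have horb : ∀ ℓ : Submodule K W, (Finset.univ.image fun h : H => h • ℓ).card *
      ((U.filter fun h => h • ℓ = ℓ).card + 1) = g := fun ℓ => by
    have h1 := MulAction.card_orbit_mul_card_stabilizer_eq_card_group H ℓ
    have h2 : (Finset.univ.image fun h : H => h • ℓ).card = Fintype.card (MulAction.orbit H ℓ) := by
      rw [← Set.toFinset_card]
      congr 1
      ext m
      simp [MulAction.mem_orbit_iff]
    have h3 : (U.filter fun h => h • ℓ = ℓ).card + 1 = Fintype.card (MulAction.stabilizer H ℓ) := by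
      rw [Fintype.card_of_subtype ((Finset.univ : Finset H).filter fun h => h • ℓ = ℓ)
        (fun h => by simp [MulAction.mem_stabilizer_iff])]
      rw [← Finset.card_insert_of_notMem (a := (1 : H)) (by simp [U])]
      congr 1
      ext h
      by_cases h0 : h = 1
      · simp [h0]
      · simp [U, h0]
    rw [h2, h3, h1]
  have hOsum : ∀ ℓ₀ : Submodule K W, ∀ ℓ ∈ (Finset.univ.image fun h : H => h • ℓ₀),
      (U.filter fun h => h • ℓ = ℓ).card = (U.filter fun h => h • ℓ₀ = ℓ₀).card := by
    intro ℓ₀ ℓ hℓ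
    obtain ⟨k, -, rfl⟩ := Finset.mem_image.1 hℓ
    have heq : (Finset.univ.image fun h : H => h • (k • ℓ₀)) = (Finset.univ.image fun h : H => h • ℓ₀) := by
      ext m
      simp only [Finset.mem_image, Finset.mem_univ, true_and]
      constructor
      · rintro ⟨h, rfl⟩; exact ⟨h * k, mul_smul h k ℓ₀⟩
      · rintro ⟨h, rfl⟩; exact ⟨h * k⁻¹, by rw [smul_smul, inv_mul_cancel_right]⟩
    have h1 := horb (k • ℓ₀)
    rw [heq, ← horb ℓ₀] at h1
    have hpos : 0 < (Finset.univ.image fun h : H => h • ℓ₀).card :=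
      Finset.card_pos.2 ⟨ℓ₀, Finset.mem_image.2 ⟨1, Finset.mem_univ _, one_smul H ℓ₀⟩⟩
    have := Nat.eq_of_mul_eq_mul_left hpos h1
    omega
  have hOsub : ∀ ℓ₀ ∈ X, (Finset.univ.image fun h : H => h • ℓ₀) ⊆ X := by
    intro ℓ₀ h0 ℓ hℓ
    obtain ⟨k, -, rfl⟩ := Finset.mem_image.1 hℓ
    obtain ⟨h, h1, hl⟩ := (hXmem _).1 h0
    refine (hXmem _).2 ⟨k * h * k⁻¹, fun e0 => h1 (conj_eq_one_iff.1 e0), ?_⟩
    rw [fixLines_conj τ B hiso]
    exact ⟨ℓ₀, hl, rfl⟩
  have hl0X : l0 ∈ X := (hXmem _).2 ⟨x, hx1, by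
    rw [show x = x ^ 1 from (pow_one x).symm, hfixx 1 (by rwa [pow_one])]; rfl⟩
  set O1 := Finset.univ.image fun h : H => h • l0 with hO1
  set n := O1.card with hn
  have hS0 : (U.filter fun h => h • l0 = l0).card + 1 = p * idx := by
    rw [← hNcard, ← hstabN, Nat.card_eq_fintype_card,
      Fintype.card_of_subtype ((Finset.univ : Finset H).filter fun h => h • l0 = l0)
        (fun h => by simp [MulAction.mem_stabilizer_iff]),
      ← Finset.card_insert_of_notMem (a := (1 : H)) (by simp [U])]
    congr 1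
    ext h
    by_cases h0 : h = 1
    · simp [h0]
    · simp [U, h0]
  have hgn : g = n * (p * idx) := by rw [← hS0, hn, hO1, horb l0]
  -- the elements of order `p`
  have hUp : (U.filter fun h => h ^ p = 1).card = n * (p - 1) := by
    have hmaps : ∀ h ∈ U.filter (fun h => h ^ p = 1), ∃ ℓ ∈ O1, fixLines τ B h = {ℓ} := fun h hh => by
      obtain ⟨hhU, hhp⟩ := Finset.mem_filter.1 hh
      obtain ⟨k, a, rfl, ha⟩ := hconjP h hhp (Finset.mem_filter.1 hhU).2
      exact ⟨k • l0, Finset.mem_image.2 ⟨k, Finset.mem_univ _, rfl⟩,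
        by rw [fixLines_conj τ B hiso, hfixx a ha, Set.image_singleton]; rfl⟩
    have hrel := Finset.sum_card_bipartiteAbove_eq_sum_card_bipartiteBelow
      (r := fun (ℓ : Submodule K W) (h : H) => fixLines τ B h = {ℓ}) (s := O1)
      (t := U.filter fun h => h ^ p = 1)
    simp only [Finset.bipartiteAbove, Finset.bipartiteBelow] at hrel
    rw [Finset.sum_congr rfl (s₁ := U.filter fun h => h ^ p = 1) (g := fun _ => 1) fun h hh => by
      obtain ⟨ℓ, hℓ, he⟩ := hmaps h hh
      rw [Finset.card_eq_one]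
      refine ⟨ℓ, Finset.eq_singleton_iff_unique_mem.2 ⟨Finset.mem_filter.2 ⟨hℓ, he⟩, fun m hm => ?_⟩⟩
      exact Set.singleton_eq_singleton_iff.1 ((Finset.mem_filter.1 hm).2.symm.trans he),
      Finset.sum_const, smul_eq_mul, mul_one] at hrel
    rw [← hrel, hn, Finset.sum_congr rfl (g := fun _ => p - 1) fun ℓ hℓ => ?_, Finset.sum_const,
      smul_eq_mul]
    obtain ⟨k, -, rfl⟩ := Finset.mem_image.1 hℓ
    have hbij : ((U.filter fun h => h ^ p = 1).filter fun h => fixLines τ B h = {k • l0}) =
        ((Finset.univ : Finset H).filter fun h => h ∈ P ∧ h ≠ 1).image fun h => k * h * k⁻¹ := by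
      ext h
      simp only [Finset.mem_filter, Finset.mem_image, U, Finset.mem_univ, true_and]
      constructor
      · rintro ⟨⟨h1, hhp⟩, hfl⟩
        refine ⟨k⁻¹ * h * k, ⟨?_, fun h0 => h1 ?_⟩, by group⟩
        · have hup : (k⁻¹ * h * k) ^ p = 1 := by
            rw [show k⁻¹ * h * k = k⁻¹ * h * k⁻¹⁻¹ by rw [inv_inv], conj_pow, hhp]; group
          have hfl' : fixLines τ B (k⁻¹ * h * k) = {l0} := by
            rw [show k⁻¹ * h * k = k⁻¹ * h * k⁻¹⁻¹ by rw [inv_inv], fixLines_conj τ B hiso, hfl,
              Set.image_singleton]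
            show ({k⁻¹ • k • l0} : Set _) = {l0}
            rw [inv_smul_smul]
          refine mem_of_pow_prime_eq_one hP hsq ?_ hup
          show _ ∈ N
          rw [← hstabN, MulAction.mem_stabilizer_iff]
          exact (hfl'.ge rfl : l0 ∈ fixLines τ B _).2
        · rw [show h = k * (k⁻¹ * h * k) * k⁻¹ by group, h0]; group
      · rintro ⟨u, ⟨huP, hu1⟩, rfl⟩
        obtain ⟨a, rfl⟩ := hzp u huP
        refine ⟨⟨fun h0 => hu1 (conj_eq_one_iff.1 h0), ?_⟩, ?_⟩
        · rw [conj_pow, ← pow_mul, mul_comm a p, pow_mul, ← hxord, pow_orderOf_eq_one, one_pow]; group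
        · rw [fixLines_conj τ B hiso, hfixx a hu1, Set.image_singleton]; rfl
    rw [hbij, Finset.card_image_of_injective _ (fun a b hab => by simpa using hab)]
    have : ((Finset.univ : Finset H).filter fun h => h ∈ P ∧ h ≠ 1) =
        ((Finset.univ : Finset H).filter fun h => h ∈ P).erase 1 := by
      ext h; simp [and_comm]
    rw [this, Finset.card_erase_of_mem (by simp [one_mem]), ← Fintype.card_subtype,
      ← Nat.card_eq_fintype_card, hP]
  have hsumU : ∑ h ∈ U, (fixLines τ B h).ncard + n * (p - 1) = 2 * U.card := by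
    rw [Finset.sum_congr rfl fun h hh => hfin h (Finset.mem_filter.1 hh).2, Finset.sum_ite,
      Finset.sum_const, Finset.sum_const, smul_eq_mul, smul_eq_mul, mul_one, hUp]
    have := Finset.card_filter_add_card_filter_not (s := U) (fun h => h ^ p = 1)
    simp only [U] at this hUp ⊢
    omega
  have hUcard : U.card + 1 = g := by
    have : U = (Finset.univ : Finset H).erase 1 := by ext h; simp [U]
    rw [this, Finset.card_erase_of_mem (Finset.mem_univ _), Finset.card_univ]
    have : 0 < Fintype.card H := Fintype.card_pos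
    omega
  -- more than one line in the orbit of `l0`
  have hnmod : n % p = 1 := by
    have h1 : n * Nat.card N = Nat.card H := by rw [hNcard, Nat.card_eq_fintype_card, ← hg, hgn]
    have h2 : (N.index) * Nat.card N = Nat.card H := by rw [mul_comm, Subgroup.card_mul_index]
    have h3 : n = N.index := Nat.eq_of_mul_eq_mul_right Nat.card_pos (h1.trans h2.symm)
    have h4 := card_sylow_modEq_one p H
    have hPset : ((P' : Subgroup H) : Set H) = (P : Set H) := congrArg SetLike.coe hP'
    rw [Sylow.card_eq_index_normalizer P'] at h4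
    change (Subgroup.normalizer ((P' : Subgroup H) : Set H)).index ≡ 1 [MOD p] at h4
    rw [hPset, ← h3] at h4
    exact Eq.trans h4 (Nat.one_mod_eq_one.2 hp.out.ne_one)
  have hn1 : n ≠ 1 := by
    intro h1
    refine hnn (Subgroup.normalizer_eq_top_iff.1 (Subgroup.eq_top_of_card_eq _ ?_))
    rw [hNcard, Nat.card_eq_fintype_card, ← hg, hgn, h1, one_mul]
  have hn' : 1 + p ≤ n := by
    have := Nat.div_add_mod n p
    rcases Nat.eq_zero_or_pos (n / p) with h0 | h0
    · rw [h0, hnmod] at this; omega
    · have : p * 1 ≤ p * (n / p) := Nat.mul_le_mul_left p h0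
      omega
  -- the arithmetic
  set r := ∑ ℓ ∈ X \ O1, (U.filter fun h => h • ℓ = ℓ).card with hr
  have hsplit : r + n * (p * idx - 1) = ∑ h ∈ U, (fixLines τ B h).ncard := by
    rw [← hdc, hr, ← Finset.sum_sdiff (hOsub l0 hl0X)]
    congr 1
    rw [Finset.sum_congr rfl (hOsum l0), Finset.sum_const, smul_eq_mul, hn]
    congr 1
    omega
  have hidx1 : 1 ≤ idx := Nat.one_le_iff_ne_zero.2 fun h0 => by
    rw [h0, mul_zero] at hNcard
    exact Nat.card_pos.ne' hNcard
  obtain ⟨ip, hip⟩ : ∃ ip, p * idx = ip + 1 := ⟨p * idx - 1, by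
    have : 1 * 1 ≤ p * idx := Nat.mul_le_mul hp.out.one_le hidx1
    omega⟩
  have hipn : n * (p * idx - 1) + n = g := by
    rw [hgn, hip, Nat.add_sub_cancel, mul_add, mul_one]
  have hr2 : r + n * (p - 1) + 2 = g + n := by omega
  have hpn : 2 * n < n * (p - 1) + 1 + n := by
    have : n * 2 ≤ n * (p - 1) := Nat.mul_le_mul_left n (by omega)
    omega
  have hrpos : r ≠ 0 := by
    intro h0
    have h5 : p * idx + 1 ≤ p + 1 → idx ≤ 1 := fun h => by
      by_contra hc
      have : p * 2 ≤ p * idx := Nat.mul_le_mul_left p (by omega)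
      omega
    rcases Nat.lt_or_ge 1 idx with h | h
    · have h6 : n * (p * 2) ≤ g := hgn ▸ Nat.mul_le_mul_left n (Nat.mul_le_mul_left p h)
      have h7 : n * (p * 2) = n * (p - 1) + n * (p + 1) := by
        rw [← mul_add]; congr 1; omega
      have h8 : n * (p + 1) = n * p + n := by ring
      have h9 : n * 3 ≤ n * p := Nat.mul_le_mul_left n h3p
      omega
    · have h6 : g = n * p := by rw [hgn, show idx = 1 by omega, mul_one]
      have h7 : n * p = n * (p - 1) + n := by
        conv_lhs => rw [show p = p - 1 + 1 by omega]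
        rw [mul_add, mul_one]
      omega
  obtain ⟨l2, hl2, hl2ne⟩ := Finset.exists_ne_zero_of_sum_ne_zero hrpos
  obtain ⟨hl2X, hl2O⟩ := Finset.mem_sdiff.1 hl2
  set O2 := Finset.univ.image fun h : H => h • l2 with hO2
  have hdisj : ∀ (a b : Submodule K W), b ∉ (Finset.univ.image fun h : H => h • a) →
      ∀ m ∈ (Finset.univ.image fun h : H => h • b), m ∉ (Finset.univ.image fun h : H => h • a) := by
    intro a b hb m hm hm'
    obtain ⟨k, -, rfl⟩ := Finset.mem_image.1 hm
    obtain ⟨j, -, hj⟩ := Finset.mem_image.1 hm'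
    exact hb (Finset.mem_image.2 ⟨k⁻¹ * j, Finset.mem_univ _, by rw [mul_smul, hj, inv_smul_smul]⟩)
  have hO2sub : O2 ⊆ X \ O1 := fun m hm =>
    Finset.mem_sdiff.2 ⟨hOsub l2 hl2X hm, hdisj l0 l2 hl2O m hm⟩
  have hcontrib : ∀ ℓ : Submodule K W, (U.filter fun h => h • ℓ = ℓ).card ≠ 0 →
      g ≤ 2 * ∑ m ∈ (Finset.univ.image fun h : H => h • ℓ), (U.filter fun h => h • m = m).card := by
    intro ℓ hne
    rw [Finset.sum_congr rfl (hOsum ℓ), Finset.sum_const, smul_eq_mul, ← horb ℓ]
    set m := (Finset.univ.image fun h : H => h • ℓ).card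
    set s := (U.filter fun h => h • ℓ = ℓ).card
    calc m * (s + 1) ≤ m * (2 * s) := Nat.mul_le_mul_left m (by omega)
      _ = 2 * (m * s) := by ring
  have hrest : ∑ m ∈ (X \ O1) \ O2, (U.filter fun h => h • m = m).card = 0 := by
    by_contra h0
    obtain ⟨l3, hl3, hl3ne⟩ := Finset.exists_ne_zero_of_sum_ne_zero h0
    obtain ⟨hl3', hl3O2⟩ := Finset.mem_sdiff.1 hl3
    obtain ⟨hl3X, hl3O1⟩ := Finset.mem_sdiff.1 hl3'
    have hO3sub : (Finset.univ.image fun h : H => h • l3) ⊆ (X \ O1) \ O2 := fun m hm =>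
      Finset.mem_sdiff.2 ⟨Finset.mem_sdiff.2 ⟨hOsub l3 hl3X hm, hdisj l0 l3 hl3O1 m hm⟩,
        hdisj l2 l3 hl3O2 m hm⟩
    have a1 := hcontrib l2 hl2ne
    have a2 := hcontrib l3 hl3ne
    have a3 := Finset.sum_le_sum_of_subset (f := fun m => (U.filter fun h => h • m = m).card) hO3sub
    have a4 := Finset.sum_sdiff (f := fun m => (U.filter fun h => h • m = m).card) hO2sub
    rw [← hO2] at a1
    rw [← hr] at a4
    omega
  have hm : O2.card = n * (p - 1) + 2 - n := by
    have a4 := Finset.sum_sdiff (f := fun m => (U.filter fun h => h • m = m).card) hO2sub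
    rw [hrest, zero_add, ← hr, Finset.sum_congr rfl (hOsum l2), Finset.sum_const, smul_eq_mul,
      ← hO2] at a4
    have a5 : O2.card * ((U.filter fun h => h • l2 = l2).card + 1) = g := horb l2
    rw [mul_add, mul_one, a4] at a5
    omega
  obtain ⟨k, hk⟩ : ∃ k, n = 1 + k * p := ⟨n / p, by
    have := Nat.div_add_mod n p; rw [hnmod] at this; rw [mul_comm (n / p)]; omega⟩
  have hk1 : 1 ≤ k := by
    rcases Nat.eq_zero_or_pos k with rfl | h
    · omega
    · exact h
  obtain ⟨q, hq⟩ : ∃ q, p = q + 3 := ⟨p - 3, by omega⟩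
  have hj : O2.card = p * (1 + k * (q + 1)) := by
    rw [hm, hk]
    have : (1 + k * p) * (p - 1) + 2 = p * (1 + k * (q + 1)) + (1 + k * p) := by
      rw [show p - 1 = q + 2 by omega, hq]; ring
    omega
  set j := 1 + k * (q + 1) with hjdef
  have hdvd : p * j ∣ n * (p * idx) := by
    rw [← hgn, ← hj]
    exact Dvd.intro _ (horb l2)
  have hdvd' : j ∣ n * idx := by
    rw [mul_left_comm n p idx] at hdvd
    exact Nat.dvd_of_mul_dvd_mul_left hp.out.pos hdvd
  have hd2 : Nat.gcd j n ∣ 2 := by
    have h1 : Nat.gcd j n ∣ 2 * k := by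
      have hnj : n = j + 2 * k := by rw [hk, hjdef, hq]; ring
      have := Nat.dvd_sub (Nat.gcd_dvd_right j n) (Nat.gcd_dvd_left j n)
      rwa [show n - j = 2 * k by omega] at this
    have hco : Nat.Coprime (Nat.gcd j n) k := by
      refine Nat.Coprime.coprime_dvd_left (Nat.gcd_dvd_right j n) ?_
      rw [hk, mul_comm k p]
      exact (Nat.coprime_add_mul_right_left 1 k p).2 (Nat.coprime_one_left k)
    exact hco.dvd_of_dvd_mul_right h1
  have hj2 : j ∣ 2 * idx := by
    have h1 : j ∣ Nat.gcd j n * idx := by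
      rw [← Nat.gcd_mul_right]
      exact Nat.dvd_gcd (Dvd.intro idx rfl) hdvd'
    exact h1.trans (Nat.mul_dvd_mul_right hd2 idx)
  have hnN : N.index = n := by
    have h1 : n * Nat.card N = Nat.card H := by rw [hNcard, Nat.card_eq_fintype_card, ← hg, hgn]
    exact (Nat.eq_of_mul_eq_mul_right Nat.card_pos
      (h1.trans ((mul_comm _ _).trans (Subgroup.card_mul_index N)).symm)).symm
  refine ⟨hcentP, k, hk1, hnN.trans hk, ?_, hidx1⟩
  rwa [show p - 2 = q + 1 by omega]

/-- Hence `p - 1 ≤ 2 |N(P) : C(P)|`. -/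
theorem le_two_mul_relIndex (h3p : 3 ≤ p) (τ : H →* Module.End K W) (hinj : Function.Injective τ)
    (B : LinearMap.BilinForm K W) (hiso : ∀ h v w, B (τ h v) (τ h w) = B v w)
    (hsymm : ∀ v w, B v w = B w v) (hnd : ∀ v, (∀ w, B v w = 0) → v = 0)
    (hdim : Module.finrank K W = 3) {P : Subgroup H} (hP : Nat.card P = p)
    (hsq : ¬ p ^ 2 ∣ Nat.card H) (hgen : Subgroup.normalClosure (P : Set H) = ⊤) (hnn : ¬ P.Normal)
    {x : H} (hx : Subgroup.zpowers x = P) (h3 : (τ x - 1) ^ 3 = 0) (h2' : (τ x - 1) ^ 2 ≠ 0) :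
    p - 1 ≤ 2 * (Subgroup.centralizer (P : Set H)).relIndex (Subgroup.normalizer (P : Set H)) := by
  obtain ⟨-, k, hk, -, hd, hpos⟩ :=
    conic_count h3p τ hinj B hiso hsymm hnd hdim hP hsq hgen hnn hx h3 h2'
  have := Nat.le_of_dvd (by omega) hd
  have : 1 * (p - 2) ≤ k * (p - 2) := Nat.mul_le_mul_right _ hk
  omega

end Cfsg.Agent.SmallDegree
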