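import Mathlib.LinearAlgebra.FiniteDimensional.Lemmas
import Mathlib.GroupTheory.GroupAction.Quotient
import Mathlib.GroupTheory.SpecificGroups.Cyclic
import Mathlib.RingTheory.Artinian.Module
import Mathlib.Algebra.CharP.Lemmas
import Mathlib.Algebra.Polynomial.AlgebraMap

/-!
# The relative trace of an equivariant projection

For `P` of order `p` with a "TI" overgroup `N`, and a projection `π` commuting with `N`, the sum
`T` of the conjugates of `π` over `G / N` agrees with `π` on the fixed vectors of `P`, provided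
`(x - 1) ^ (p - 1) = 0`.  Hence the stable image of `T` is a `G`-invariant subspace isomorphic to
the image of `π` as a module for `P`.
-/

set_option autoImplicit false
set_option linter.style.haveILetI false

namespace Cfsg.Agent.SmallDegree

open Polynomial

universe u v w

variable {k : Type v} [Field k] {p : ℕ} [hp : Fact p.Prime] [CharP k p]

/-- The geometric sum of length `p`. -/
theorem geom_sum_eq_sub_pow {A : Type*} [Ring A] [Algebra k A] (a : A) :
    ∑ i ∈ Finset.range p, a ^ i = (a - 1) ^ (p - 1) := by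
  have h : (∑ i ∈ Finset.range p, (X : k[X]) ^ i) = (X - 1) ^ (p - 1) := by
    refine mul_right_cancel₀ (b := (X : k[X]) - 1) (fun h => X_sub_C_ne_zero (1 : k) (by simpa using h)) ?_
    rw [geom_sum_mul, ← pow_succ, Nat.sub_add_cancel hp.out.one_le, sub_pow_char, one_pow]
  simpa using congrArg (aeval a) h

variable {G : Type u} [Group G] {V : Type w} [AddCommGroup V] [Module k V]
  (θ : G →* Module.End k V)

theorem act_mul (a b : G) (v : V) : θ (a * b) v = θ a (θ b v) := by rw [map_mul]; rfl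

theorem act_one (v : V) : θ 1 v = v := by rw [map_one]; rfl

theorem act_inv_act (a : G) (v : V) : θ a⁻¹ (θ a v) = v := by
  rw [← act_mul, inv_mul_cancel, act_one]

theorem act_act_inv (a : G) (v : V) : θ a (θ a⁻¹ v) = v := by
  rw [← act_mul, mul_inv_cancel, act_one]

theorem act_zpow_fix {x : G} {v : V} (h : θ x v = v) (a : ℤ) : θ (x ^ a) v = v := by
  induction a using Int.induction_on with
  | zero => rw [zpow_zero, act_one]
  | succ i ih => rw [zpow_add_one, act_mul, h, ih]
  | pred i ih =>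
    have h' : θ x⁻¹ v = v := by
      conv_lhs => rw [← h]
      rw [act_inv_act]
    rw [zpow_sub_one, act_mul, h', ih]

/-- A nonzero invariant subspace of a unipotent map contains a fixed vector. -/
theorem exists_fixed {f : Module.End k V} {r : ℕ} (hf : (f - 1) ^ r = 0) {W : Submodule k V}
    (hW : ∀ w ∈ W, f w ∈ W) (hne : W ≠ ⊥) : ∃ v ∈ W, f v = v ∧ v ≠ 0 := by
  obtain ⟨w, hw, hw0⟩ := Submodule.exists_mem_ne_zero_of_ne_bot hne
  have hmem : ∀ i : ℕ, ((f - 1) ^ i) w ∈ W := fun i => by
    induction i with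
    | zero => simpa using hw
    | succ i ih =>
      rw [pow_succ', Module.End.mul_apply, LinearMap.sub_apply, Module.End.one_apply]
      exact sub_mem (hW _ ih) ih
  classical
  have hex : ∃ i : ℕ, ((f - 1) ^ i) w = 0 := ⟨r, by rw [hf]; rfl⟩
  obtain ⟨i, hi⟩ : ∃ i, Nat.find hex = i + 1 := by
    refine Nat.exists_eq_add_one_of_ne_zero fun h0 => hw0 ?_
    have := Nat.find_spec hex
    rw [h0] at this
    simpa using this
  refine ⟨(((f - 1) ^ i : Module.End k V)) w, hmem i, sub_eq_zero.1 ?_, Nat.find_min hex (by omega)⟩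
  have := Nat.find_spec hex
  rw [hi, pow_succ', Module.End.mul_apply, LinearMap.sub_apply, Module.End.one_apply] at this
  exact this

variable [Finite G] {N P : Subgroup G} (hPN : P ≤ N) (π : Module.End k V)
  (hπN : ∀ n ∈ N, θ n * π = π * θ n)

/-- The sum of the conjugates of `π` over `G / N`. -/
noncomputable def relTr (N : Subgroup G) (π : Module.End k V) : Module.End k V :=
  haveI := Fintype.ofFinite (G ⧸ N)
  ∑ q : G ⧸ N, θ q.out * π * θ q.out⁻¹

include hπN in
theorem conj_out (g : G) (v : V) :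
    θ ((g : G ⧸ N)).out (π (θ ((g : G ⧸ N)).out⁻¹ v)) = θ g (π (θ g⁻¹ v)) := by
  obtain ⟨n, hn⟩ := QuotientGroup.mk_out_eq_mul N g
  rw [hn, mul_inv_rev, act_mul θ g, act_mul θ (n : G)⁻¹]
  congr 1
  have h := LinearMap.congr_fun (hπN n n.2) (θ (n : G)⁻¹ (θ g⁻¹ v))
  simp only [Module.End.mul_apply] at h
  rw [h, act_act_inv]

include hπN in
theorem relTr_comm (g : G) : θ g * relTr θ N π = relTr θ N π * θ g := by
  classical
  letI := Fintype.ofFinite (G ⧸ N)
  refine LinearMap.ext fun v => ?_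
  simp only [relTr, Module.End.mul_apply, LinearMap.sum_apply, map_sum]
  refine Fintype.sum_equiv (MulAction.toPerm g) _ _ fun q => ?_
  obtain ⟨a, rfl⟩ := QuotientGroup.mk_surjective q
  rw [conj_out θ π hπN, MulAction.toPerm_apply]
  show _ = θ ((g * a : G) : G ⧸ N).out (π (θ ((g * a : G) : G ⧸ N).out⁻¹ (θ g v)))
  rw [conj_out θ π hπN, act_mul θ g a, mul_inv_rev, act_mul θ a⁻¹, act_inv_act]

variable (hcard : Nat.card P = p) {x : G} (hx : Subgroup.zpowers x = P)

include hcard hx in
/-- On vectors fixed by `P` a sum over `P` vanishes. -/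
theorem sum_P_eq_zero (hd : (θ x - 1) ^ (p - 1) = 0) (v : V) :
    haveI := Fintype.ofFinite P
    ∑ u : P, θ (u : G) v = 0 := by
  classical
  letI := Fintype.ofFinite P
  have hord : orderOf x = p := by rw [← Nat.card_zpowers, hx, hcard]
  have hxP : x ∈ P := hx ▸ Subgroup.mem_zpowers x
  have hbij : Function.Bijective fun i : Fin p => (⟨x ^ (i : ℕ), pow_mem hxP _⟩ : P) := by
    rw [Fintype.bijective_iff_injective_and_card]
    refine ⟨fun i j h => Fin.ext ?_, by rw [Fintype.card_fin, ← Nat.card_eq_fintype_card, hcard]⟩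
    exact pow_injOn_Iio_orderOf (by rw [hord]; exact i.2) (by rw [hord]; exact j.2)
      (congrArg Subtype.val h)
  rw [← hbij.sum_comp (fun u : P => θ (u : G) v)]
  simp only [map_pow]
  rw [Fin.sum_univ_eq_sum_range (fun i => (θ x ^ i) v), ← LinearMap.sum_apply,
    geom_sum_eq_sub_pow (k := k) (θ x), hd]
  rfl

include hPN hπN hcard hx in
/-- The relative trace agrees with `π` on fixed vectors. -/
theorem relTr_apply_fixed (hfree : ∀ g, g ∉ N → ∀ u ∈ P, g⁻¹ * u * g ∈ N → u = 1)
    (hd : (θ x - 1) ^ (p - 1) = 0) {v : V} (hv : θ x v = v) : relTr θ N π v = π v := by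
  classical
  letI := Fintype.ofFinite (G ⧸ N)
  letI := Fintype.ofFinite P
  have hfix : ∀ u ∈ P, θ u v = v := fun u hu => by
    obtain ⟨a, rfl⟩ := Subgroup.mem_zpowers_iff.1 (hx.symm ▸ hu : u ∈ Subgroup.zpowers x)
    exact act_zpow_fix θ hv a
  set b : G ⧸ N := ((1 : G) : G ⧸ N) with hb
  have hbase : ∀ u : P, u • b = b := fun u => by
    show (((u : G) * 1 : G) : G ⧸ N) = _
    rw [mul_one]
    exact QuotientGroup.eq.2 (by simpa using hPN u.2)
  have hfr : ∀ (u : P) (c : G ⧸ N), c ≠ b → u • c = c → u = 1 := by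
    intro u c hc hu
    obtain ⟨g, rfl⟩ := QuotientGroup.mk_surjective c
    have hg : g ∉ N := fun h => hc (QuotientGroup.eq.2 (by simpa using h))
    refine Subtype.ext (hfree g hg u u.2 ?_)
    have h1 : (((u : G) * g : G) : G ⧸ N) = (g : G ⧸ N) := hu
    have := QuotientGroup.eq.1 h1.symm
    simpa [mul_assoc] using this
  let F : G ⧸ N → V := fun q => θ q.out (π (θ q.out⁻¹ v))
  have hF : relTr θ N π v = ∑ q, F q := by
    simp only [relTr, LinearMap.sum_apply, Module.End.mul_apply, F]
  have hsm : ∀ (u : P) (q : G ⧸ N), F (u • q) = θ u (F q) := by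
    intro u q
    obtain ⟨g, rfl⟩ := QuotientGroup.mk_surjective q
    show θ (((u : G) * g : G) : G ⧸ N).out (π (θ (((u : G) * g : G) : G ⧸ N).out⁻¹ v)) = _
    simp only [F]
    rw [conj_out θ π hπN, conj_out θ π hπN, mul_inv_rev, act_mul θ (u : G) g, act_mul θ g⁻¹,
      hfix (u : G)⁻¹ (inv_mem u.2)]
  have hrest : ∑ q ∈ Finset.univ.erase b, F q = 0 := by
    rw [← Finset.sum_fiberwise (Finset.univ.erase b)
      (Quotient.mk (MulAction.orbitRel P (G ⧸ N)))]
    refine Finset.sum_eq_zero fun o _ => ?_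
    by_cases he : ((Finset.univ.erase b).filter
        (fun c => Quotient.mk (MulAction.orbitRel P (G ⧸ N)) c = o)).Nonempty
    · obtain ⟨c₀, hc₀⟩ := he
      obtain ⟨hc₀b, hc₀o⟩ := Finset.mem_filter.1 hc₀
      have hc₀1 : c₀ ≠ b := Finset.ne_of_mem_erase hc₀b
      have himg : (Finset.univ.erase b).filter
          (fun c => Quotient.mk (MulAction.orbitRel P (G ⧸ N)) c = o) =
          Finset.univ.image (fun q : P => q • c₀) := by
        ext c
        simp only [Finset.mem_filter, Finset.mem_erase, Finset.mem_univ, and_true,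
          Finset.mem_image, true_and]
        constructor
        · rintro ⟨-, hco⟩
          exact Quotient.exact (hco.trans hc₀o.symm)
        · rintro ⟨q, rfl⟩
          refine ⟨fun h => hc₀1 ?_, (Quotient.sound (MulAction.mem_orbit c₀ q)).trans hc₀o⟩
          have := congrArg (fun c => q⁻¹ • c) h
          simpa [hbase] using this
      rw [himg, Finset.sum_image fun q _ r _ hqr => ?_]
      · simp only [hsm]
        exact sum_P_eq_zero θ hcard hx hd (F c₀)
      · have : (r⁻¹ * q) • c₀ = c₀ := by rw [mul_smul]; simp [hqr]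
        exact (inv_mul_eq_one.1 (hfr _ c₀ hc₀1 this)).symm
    · rw [Finset.not_nonempty_iff_eq_empty.1 he, Finset.sum_empty]
  rw [hF, ← Finset.add_sum_erase _ _ (Finset.mem_univ b), hrest, add_zero, hb]
  show θ _ (π (θ _ v)) = _
  rw [conj_out θ π hπN, inv_one, act_one, act_one]

include hPN hπN hcard hx in
/-- The stable image of the relative trace. -/
theorem exists_stable_image [FiniteDimensional k V]
    (hfree : ∀ g, g ∉ N → ∀ u ∈ P, g⁻¹ * u * g ∈ N → u = 1)
    (hd : (θ x - 1) ^ (p - 1) = 0) (hidem : π * π = π) :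
    ∃ m : ℕ, ∃ W : Submodule k V, W = LinearMap.range (relTr θ N π ^ m) ∧
      (∀ g, ∀ w ∈ W, θ g w ∈ W) ∧ (∀ w ∈ W, (relTr θ N π ^ m) w = 0 → w = 0) ∧
      ∃ e : LinearMap.range π ≃ₗ[k] W,
        ∀ v : LinearMap.range π, ∀ hv : θ x v ∈ LinearMap.range π,
          ((e ⟨θ x v, hv⟩ : W) : V) = θ x (e v : V) := by
  classical
  set T := relTr θ N π with hT
  obtain ⟨m₀, hm₀⟩ := Filter.eventually_atTop.1 (LinearMap.eventually_codisjoint_ker_pow_range_pow T)
  obtain ⟨m₁, hm₁⟩ := Filter.eventually_atTop.1 (Module.End.eventually_disjoint_ker_pow_range_pow T)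
  set m := max (max m₀ m₁) 1
  have hdisj : Disjoint (LinearMap.ker (T ^ m)) (LinearMap.range (T ^ m)) :=
    hm₁ m ((le_max_right m₀ m₁).trans (le_max_left _ _))
  set W := LinearMap.range (T ^ m)
  have hcomm : ∀ g, θ g * T ^ m = T ^ m * θ g := fun g => (Commute.pow_right (relTr_comm θ π hπN g) m)
  have hWinv : ∀ g, ∀ w ∈ W, θ g w ∈ W := by
    rintro g _ ⟨v, rfl⟩
    exact ⟨θ g v, (LinearMap.congr_fun (hcomm g) v).symm⟩
  have hWker : ∀ w ∈ W, (T ^ m) w = 0 → w = 0 := fun w hw h0 =>
    Submodule.disjoint_def.1 hdisj w h0 hw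
  have hfixT : ∀ v, θ x v = v → T v = π v := fun v hv =>
    relTr_apply_fixed θ hPN π hπN hcard hx hfree hd hv
  have hxN : x ∈ N := hPN (hx ▸ Subgroup.mem_zpowers x)
  set V0 := LinearMap.range π
  have hV0 : ∀ v ∈ V0, θ x v ∈ V0 := by
    rintro _ ⟨v, rfl⟩
    exact ⟨θ x v, (LinearMap.congr_fun (hπN x hxN) v).symm⟩
  have hπV0 : ∀ v ∈ V0, π v = v := by
    rintro _ ⟨v, rfl⟩
    exact LinearMap.congr_fun hidem v
  have hTfix : ∀ v ∈ V0, θ x v = v → (T ^ m) v = v := by
    intro v hv hxv
    have h1 : T v = v := by rw [hfixT v hxv, hπV0 v hv]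
    have : ∀ i : ℕ, (T ^ i) v = v := fun i => by
      induction i with
      | zero => rfl
      | succ i ih => rw [pow_succ, Module.End.mul_apply, h1, ih]
    exact this m
  -- `T ^ m` is injective on `V0` and `π` on `W`
  have hinj1 : ∀ v ∈ V0, (T ^ m) v = 0 → v = 0 := by
    intro v hv h0
    by_contra hv0
    obtain ⟨u, hu, hxu, hu0⟩ := exists_fixed hd (W := V0 ⊓ LinearMap.ker (T ^ m))
      (fun w hw => ⟨hV0 w hw.1, by
        show (T ^ m) (θ x w) = 0
        have := LinearMap.congr_fun (hcomm x) w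
        simp only [Module.End.mul_apply] at this
        rw [← this, show (T ^ m) w = 0 from hw.2, map_zero]⟩)
      (fun h => hv0 ((Submodule.mem_bot k).1 (h ▸ ⟨hv, h0⟩)))
    exact hu0 ((hTfix u hu.1 hxu).symm.trans hu.2)
  have hinj2 : ∀ w ∈ W, π w = 0 → w = 0 := by
    intro w hw h0
    by_contra hw0
    obtain ⟨u, hu, hxu, hu0⟩ := exists_fixed hd (W := W ⊓ LinearMap.ker π)
      (fun w hw => ⟨hWinv x w hw.1, by
        show π (θ x w) = 0
        have := LinearMap.congr_fun (hπN x hxN) w
        simp only [Module.End.mul_apply] at this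
        rw [← this, show π w = 0 from hw.2, map_zero]⟩)
      (fun h => hw0 ((Submodule.mem_bot k).1 (h ▸ ⟨hw, h0⟩)))
    refine hu0 (hWker u hu.1 ?_)
    have h1 : T u = 0 := (hfixT u hxu).trans hu.2
    rw [show m = (m - 1) + 1 by omega, pow_succ, Module.End.mul_apply, h1, map_zero]
  let f : V0 →ₗ[k] W := (T ^ m).restrict (p := V0) (q := W) fun v _ => ⟨v, rfl⟩
  let g : W →ₗ[k] V0 := π.restrict (p := W) (q := V0) fun v _ => ⟨v, rfl⟩
  have hf : Function.Injective f := (injective_iff_map_eq_zero f).2 fun v hv =>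
    Subtype.ext (hinj1 v v.2 (congrArg Subtype.val hv))
  have hg : Function.Injective g := (injective_iff_map_eq_zero g).2 fun v hv =>
    Subtype.ext (hinj2 v v.2 (congrArg Subtype.val hv))
  have hdim := le_antisymm (LinearMap.finrank_le_finrank_of_injective hf)
    (LinearMap.finrank_le_finrank_of_injective hg)
  let e := LinearEquiv.ofBijective f ⟨hf, (LinearMap.injective_iff_surjective_of_finrank_eq_finrank hdim).1 hf⟩
  refine ⟨m, W, rfl, hWinv, hWker, e, fun v hv => ?_⟩
  show (T ^ m) (θ x v) = θ x ((T ^ m) v)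
  exact (LinearMap.congr_fun (hcomm x) v).symm

end Cfsg.Agent.SmallDegree
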