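import Cfsg.Agent.Lib.SmallDegree.RelativeTrace
import Cfsg.Agent.Lib.SmallDegree.AdjointThree
import Cfsg.Agent.Lib.SmallDegree.ConicCount
import Mathlib.GroupTheory.SchurZassenhaus
import Mathlib.LinearAlgebra.Eigenspace.Zero

/-!
# Small modules for a group with a Sylow subgroup of order `p`

`le_two_mul_relIndex_of_small`: if `P` of order `p` is a non-normal Sylow subgroup generating `G`
normally and `G` has a representation in characteristic `p`, of dimension `n` with `2n < p`,
whose kernel consists of `p`-elements, then `p - 1 ≤ 2 |N(P) : C(P)|`.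
-/

set_option autoImplicit false
set_option linter.style.haveILetI false

namespace Cfsg.Agent.SmallDegree

open DerivedLength
open scoped Pointwise

universe u v w

variable {K : Type v} [Field K] [IsAlgClosed K] {p : ℕ} [hp : Fact p.Prime] [CharP K p]
  {G : Type u} [Group G] [Finite G]

/-- A normally generating subgroup acting trivially makes everything act trivially. -/
theorem eq_one_of_normalClosure {V : Type w} [AddCommGroup V] [Module K V] (θ : G →* Module.End K V)
    {P : Subgroup G} (hgen : Subgroup.normalClosure (P : Set G) = ⊤) (hP : ∀ u ∈ P, θ u = 1) (g : G) :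
    θ g = 1 := by
  have hle : Subgroup.normalClosure (P : Set G) ≤ θ.toHomUnits.ker :=
    Subgroup.normalClosure_le_normal fun u hu => by
      rw [SetLike.mem_coe, MonoidHom.mem_ker]
      exact Units.ext (hP u hu)
  exact congrArg Units.val (MonoidHom.mem_ker.1 (hle (hgen ▸ Subgroup.mem_top g)))

theorem exists_eq_pow {x u : G} {P : Subgroup G} (hx : Subgroup.zpowers x = P) (hu : u ∈ P) :
    ∃ a : ℕ, u = x ^ a := by
  obtain ⟨a, ha⟩ := mem_powers_iff_mem_zpowers.2 (hx.symm ▸ hu : u ∈ Subgroup.zpowers x)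
  exact ⟨a, ha.symm⟩

theorem eq_one_of_generator {V : Type w} [AddCommGroup V] [Module K V] (θ : G →* Module.End K V)
    {x : G} {P : Subgroup G} (hx : Subgroup.zpowers x = P) (h : θ x = 1) : ∀ u ∈ P, θ u = 1 := by
  intro u hu
  obtain ⟨a, rfl⟩ := exists_eq_pow hx hu
  rw [map_pow, h, one_pow]

/-- Either some irreducible subquotient is nontrivial on `x`, or everything is unipotent. -/
theorem exists_irreducible_or_unipotent {x : G} {P : Subgroup G} (hx : Subgroup.zpowers x = P)
    (hgen : Subgroup.normalClosure (P : Set G) = ⊤) (d : ℕ) :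
    ∀ (V : Type w) [AddCommGroup V] [Module K V] [FiniteDimensional K V] (θ : G →* Module.End K V),
      Module.finrank K V = d →
      (∃ (U : Type w) (_ : AddCommGroup U) (_ : Module K U) (_ : FiniteDimensional K U)
        (φ : G →* Module.End K U), Module.finrank K U ≤ d ∧ φ x ≠ 1 ∧
          ∀ W : Submodule K U, Invariant φ W → W = ⊥ ∨ W = ⊤) ∨
      ∀ g, (θ g - 1) ^ d = 0 := by
  induction d using Nat.strong_induction_on with
  | _ d ih =>
  intro V _ _ _ θ hd
  by_cases hirr : ∀ W : Submodule K V, Invariant θ W → W = ⊥ ∨ W = ⊤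
  · by_cases h1 : θ x = 1
    · right
      intro g
      rcases Nat.eq_zero_or_pos d with h0 | h0
      · haveI : Subsingleton V := Module.finrank_zero_iff.1 (hd.trans h0)
        exact LinearMap.ext fun v => Subsingleton.elim _ _
      · rw [eq_one_of_normalClosure θ hgen (eq_one_of_generator θ hx h1) g, sub_self, zero_pow h0.ne']
    · exact Or.inl ⟨V, inferInstance, inferInstance, inferInstance, θ, hd.le, h1, hirr⟩
  · simp only [not_forall, not_or] at hirr
    obtain ⟨W, hW, hWb, hWt⟩ := hirr
    have hWlt : Module.finrank K W < d := by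
      rw [← hd]; exact Submodule.finrank_lt hWt
    have hQlt : Module.finrank K (V ⧸ W) < d := by
      have h1 := Submodule.finrank_quotient_add_finrank W
      have h2 : 0 < Module.finrank K W := Nat.pos_of_ne_zero fun h0 =>
        hWb (Submodule.finrank_eq_zero.1 h0)
      omega
    rcases ih _ hWlt W (subAct θ hW) rfl with ⟨U, i1, i2, i3, φ, h1, h2, h3⟩ | hu
    · exact Or.inl ⟨U, i1, i2, i3, φ, h1.trans hWlt.le, h2, h3⟩
    rcases ih _ hQlt (V ⧸ W) (quotAct θ hW) rfl with ⟨U, i1, i2, i3, φ, h1, h2, h3⟩ | hq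
    · exact Or.inl ⟨U, i1, i2, i3, φ, h1.trans hQlt.le, h2, h3⟩
    right
    intro g
    have e : d = Module.finrank K W + Module.finrank K (V ⧸ W) := by
      have h1 := Submodule.finrank_quotient_add_finrank W
      omega
    refine LinearMap.ext fun v => ?_
    rw [e, pow_add, Module.End.mul_apply, LinearMap.zero_apply]
    have hq' : ∀ (i : ℕ) (v : V), Submodule.Quotient.mk (((θ g - 1) ^ i : Module.End K V) v) =
        ((quotAct θ hW g - 1) ^ i : Module.End K (V ⧸ W)) (Submodule.Quotient.mk v) := fun i => by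
      induction i with
      | zero => intro v; rfl
      | succ i ihi =>
        intro v
        rw [pow_succ, pow_succ, Module.End.mul_apply, Module.End.mul_apply, ihi]
        rfl
    have hw' : ∀ (i : ℕ) (w : W), ((((subAct θ hW g - 1) ^ i : Module.End K W) w : W) : V) =
        ((θ g - 1) ^ i : Module.End K V) (w : V) := fun i => by
      induction i with
      | zero => intro w; rfl
      | succ i ihi =>
        intro w
        rw [pow_succ, pow_succ, Module.End.mul_apply, Module.End.mul_apply, ihi]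
        rfl
    have hmem : ((θ g - 1) ^ Module.finrank K (V ⧸ W) : Module.End K V) v ∈ W := by
      rw [← Submodule.Quotient.mk_eq_zero, hq', hq g, LinearMap.zero_apply]
    rw [← hw' _ ⟨_, hmem⟩, hu g]
    rfl

theorem not_forall_unipotent {V : Type w} [AddCommGroup V] [Module K V] [Nontrivial V]
    {P : Subgroup G} (hP : Nat.card P = p) (hsq : ¬ p ^ 2 ∣ Nat.card G) (hnn : ¬ P.Normal)
    (θ : G →* Module.End K V) (hker : ∀ g, θ g = 1 → ∃ j, g ^ p ^ j = 1) (d : ℕ) :
    ¬ ∀ g, (θ g - 1) ^ d = 0 := by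
  intro h
  haveI : CharP (Module.End K V) p := charP_of_injective_algebraMap
    (FaithfulSMul.algebraMap_injective K (Module.End K V)) p
  have hG : IsPGroup p G := fun g => by
    have h1 : θ g ^ p ^ d = 1 := by
      have h2 := sub_pow_char_pow_of_commute (R := Module.End K V) (p := p) (n := d)
        (Commute.one_right (θ g))
      rw [pow_eq_zero_of_le (Nat.lt_pow_self hp.out.one_lt).le (h g), one_pow] at h2
      exact sub_eq_zero.1 h2.symm
    rw [← map_pow] at h1
    obtain ⟨j, hj⟩ := hker _ h1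
    exact ⟨d + j, by rw [pow_add, pow_mul]; exact hj⟩
  obtain ⟨a, ha⟩ := IsPGroup.iff_card.1 hG
  have h1 : p ∣ Nat.card G := hP ▸ Subgroup.card_subgroup_dvd_card P
  have ha1 : a = 1 := by
    rcases a with _ | _ | a
    · rw [ha, pow_zero, Nat.dvd_one] at h1; exact absurd h1 hp.out.ne_one
    · rfl
    · exact absurd (ha ▸ pow_dvd_pow p (by omega)) hsq
  have htop : P = ⊤ := Subgroup.eq_top_of_card_eq P (by rw [hP, ha, ha1, pow_one])
  exact hnn (htop ▸ Subgroup.normal_of_characteristic _)

/-- Passing to an image. -/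
theorem relIndex_map_le {H : Type*} [Group H] (f : G →* H) (hf : Function.Surjective f)
    {P : Subgroup G} (hP : Nat.card P = p) (hsq : ¬ p ^ 2 ∣ Nat.card G) :
    (Subgroup.centralizer ((P.map f : Subgroup H) : Set H)).relIndex
        (Subgroup.normalizer ((P.map f : Subgroup H) : Set H)) ≤
      (Subgroup.centralizer (P : Set G)).relIndex (Subgroup.normalizer (P : Set G)) := by
  set P' := P.map f
  have hsub : Subgroup.normalizer (P' : Set H) ≤ (Subgroup.normalizer (P : Set G)).map f := by
    intro h hh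
    obtain ⟨g, rfl⟩ := hf h
    set L := P'.comap f with hL
    have hPL : P ≤ L := Subgroup.le_comap_map f P
    have hPgL : MulAut.conj g • P ≤ L := by
      intro y hy
      rw [Subgroup.mem_pointwise_smul_iff_inv_smul_mem] at hy
      show f y ∈ P'
      have h1 : f g⁻¹ * f y * f g ∈ P' := ⟨_, hy, by simp [map_mul]⟩
      have h2 := (Subgroup.mem_normalizer_iff.1 hh _).1 h1
      simpa [map_inv, mul_assoc] using h2
    have hfac : (Nat.card L).factorization p = 1 := by
      have h1 : p ^ 1 ∣ Nat.card L := by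
        rw [pow_one, ← hP]; exact Subgroup.card_dvd_of_le hPL
      have a1 := (hp.out.pow_dvd_iff_le_factorization Nat.card_pos.ne').1 h1
      have a2 : ¬ 2 ≤ (Nat.card L).factorization p := fun h =>
        hsq (((hp.out.pow_dvd_iff_le_factorization Nat.card_pos.ne').2 h).trans
          (Subgroup.card_subgroup_dvd_card L))
      omega
    have hc2 : Nat.card (MulAut.conj g • P : Subgroup G) = p := by
      rw [← hP]; exact (Nat.card_congr (Subgroup.equivSMul (MulAut.conj g) P).toEquiv).symm
    let S1 : Sylow p L := Sylow.ofCard (P.subgroupOf L) (by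
      rw [Nat.card_congr (Subgroup.subgroupOfEquivOfLe hPL).toEquiv, hP, hfac, pow_one])
    let S2 : Sylow p L := Sylow.ofCard ((MulAut.conj g • P).subgroupOf L) (by
      rw [Nat.card_congr (Subgroup.subgroupOfEquivOfLe hPgL).toEquiv, hc2, hfac, pow_one])
    obtain ⟨k, hk⟩ := MulAction.exists_smul_eq L S2 S1
    have hkN : (k : G) * g ∈ Subgroup.normalizer (P : Set G) := by
      have h1 : ∀ u ∈ P, (k : G) * g * u * ((k : G) * g)⁻¹ ∈ P := by
        intro u hu
        have hy : g * u * g⁻¹ ∈ MulAut.conj g • P := ⟨u, hu, by simp⟩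
        have hy2 : (⟨_, hPgL hy⟩ : L) ∈ (S2 : Subgroup L) := by
          rw [Sylow.coe_ofCard]; exact hy
        have h3 : k * (⟨_, hPgL hy⟩ : L) * k⁻¹ ∈ (S1 : Subgroup L) := by
          rw [← hk]
          change k * (⟨_, hPgL hy⟩ : L) * k⁻¹ ∈ MulAut.conj k • (S2 : Subgroup L)
          exact ⟨_, hy2, by simp⟩
        rw [Sylow.coe_ofCard, Subgroup.mem_subgroupOf] at h3
        simpa [mul_assoc] using h3
      rw [Subgroup.mem_normalizer_iff_map_conj_eq]
      refine Subgroup.eq_of_le_of_card_ge ?_ (le_of_eq ?_)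
      · rintro _ ⟨u, hu, rfl⟩
        exact h1 u hu
      · exact (Subgroup.card_map_of_injective (MulAut.conj _).injective).symm
    obtain ⟨u, hu, hfu⟩ := (k.2 : f (k : G) ∈ P')
    refine ⟨u⁻¹ * ((k : G) * g), mul_mem (inv_mem (Subgroup.le_normalizer hu)) hkN, ?_⟩
    rw [map_mul, map_inv, hfu, map_mul, inv_mul_cancel_left]
  have hsub2 : (Subgroup.normalizer (P : Set G)).map f ≤ Subgroup.normalizer (P' : Set H) := by
    rintro _ ⟨g, hg, rfl⟩
    rw [Subgroup.mem_normalizer_iff]
    intro y
    constructor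
    · rintro ⟨u, hu, rfl⟩
      exact ⟨g * u * g⁻¹, (Subgroup.mem_normalizer_iff.1 hg u).1 hu, by simp⟩
    · rintro ⟨u, hu, he⟩
      refine ⟨g⁻¹ * u * g, (Subgroup.mem_normalizer_iff.1 hg _).2 (by
        simpa [mul_assoc] using hu), ?_⟩
      simp [map_mul, he, mul_assoc]
  rw [le_antisymm hsub hsub2, ← Subgroup.relIndex_comap]
  refine Nat.le_of_dvd (Nat.pos_of_ne_zero ?_) (Subgroup.relIndex_dvd_of_le_left _ ?_)
  · exact Subgroup.index_ne_zero_of_finite
  · intro c hc
    rw [Subgroup.mem_comap, Subgroup.mem_centralizer_iff]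
    rintro _ ⟨u, hu, rfl⟩
    rw [← map_mul, ← map_mul, Subgroup.mem_centralizer_iff.1 hc u hu]

/-- The irreducible case: the image on the conic, for a small nilpotency index. -/
theorem exists_conic_image_of_nilpotent {V : Type w} [AddCommGroup V] [Module K V]
    [FiniteDimensional K V] (hV : Module.finrank K V < p) (θ : G →* Module.End K V)
    (hirr : ∀ W : Submodule K V, Invariant θ W → W = ⊥ ∨ W = ⊤)
    {P : Subgroup G} (hP : Nat.card P = p) (hsq : ¬ p ^ 2 ∣ Nat.card G)
    (hgen : Subgroup.normalClosure (P : Set G) = ⊤)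
    {x : G} (hx : Subgroup.zpowers x = P) (hx1 : θ x ≠ 1) {l : ℕ} (hl : 2 * l < p)
    (hlx : (θ x - 1) ^ l = 0) :
    ∃ (H : Type w) (_ : Group H) (_ : Finite H) (f : G →* H), Function.Surjective f ∧
      Nat.card (P.map f) = p ∧ ¬ (P.map f).Normal ∧
      Subgroup.centralizer ((P.map f : Subgroup H) : Set H) = P.map f ∧ ∃ k : ℕ, 1 ≤ k ∧
      (Subgroup.normalizer ((P.map f : Subgroup H) : Set H)).index = 1 + k * p ∧
      1 + k * (p - 2) ∣ 2 * (Subgroup.centralizer ((P.map f : Subgroup H) : Set H)).relIndex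
        (Subgroup.normalizer ((P.map f : Subgroup H) : Set H)) ∧
      0 < (Subgroup.centralizer ((P.map f : Subgroup H) : Set H)).relIndex
        (Subgroup.normalizer ((P.map f : Subgroup H) : Set H)) := by
  classical
  haveI : Nontrivial V := by
    by_contra h
    rw [not_nontrivial_iff_subsingleton] at h
    exact hx1 (LinearMap.ext fun v => Subsingleton.elim _ _)
  haveI : CharP (Module.End K V) p := charP_of_injective_algebraMap
    (FaithfulSMul.algebraMap_injective K (Module.End K V)) p
  have hdimpos : 0 < Module.finrank K V := Module.finrank_pos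
  have hxord : orderOf x = p := by rw [← Nat.card_zpowers, hx, hP]
  have hxp : x ^ p = 1 := hxord ▸ pow_orderOf_eq_one x
  have hxP : x ∈ P := hx ▸ Subgroup.mem_zpowers x
  have hnil : IsNilpotent (θ x - 1) := ⟨p, by
    rw [sub_pow_char_of_commute p (Commute.one_right _), ← map_pow, hxp, map_one, one_pow, sub_self]⟩
  have hfin : (θ x - 1) ^ Module.finrank K V = 0 := by
    have h1 := LinearMap.aeval_self_charpoly (θ x - 1)
    rw [IsNilpotent.charpoly_eq_X_pow_finrank hnil] at h1
    simpa using h1
  have hex : ∃ l : ℕ, (θ x - 1) ^ l = 0 := ⟨_, hfin⟩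
  obtain ⟨n, hn⟩ : ∃ n, Nat.find hex = n + 1 := by
    refine Nat.exists_eq_add_one_of_ne_zero fun h0 => ?_
    have := Nat.find_spec hex
    rw [h0, pow_zero] at this
    exact one_ne_zero this
  have hpow : (θ x - 1) ^ (n + 1) = 0 := hn ▸ Nat.find_spec hex
  have hne : (θ x - 1) ^ n ≠ 0 := Nat.find_min hex (by omega)
  have hn1 : 1 ≤ n := Nat.pos_of_ne_zero fun h0 => hx1 (sub_eq_zero.1 (by
    rw [h0, zero_add, pow_one] at hpow; exact hpow))
  have hnle : n + 1 ≤ Module.finrank K V := hn ▸ Nat.find_le hfin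
  have hnl : n + 1 ≤ l := hn ▸ Nat.find_le hlx
  -- the complement of `P` in its normaliser
  set N := Subgroup.normalizer (P : Set G) with hNdef
  have hPN : P ≤ N := Subgroup.le_normalizer
  haveI : (P.subgroupOf N).Normal := Subgroup.normal_in_normalizer
  have hcardPN : Nat.card (P.subgroupOf N) = p := by
    rw [Nat.card_congr (Subgroup.subgroupOfEquivOfLe hPN).toEquiv, hP]
  have hidx : ¬ p ∣ (P.subgroupOf N).index := fun h => hsq (by
    have h1 := Subgroup.card_mul_index (P.subgroupOf N)
    rw [hcardPN] at h1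
    refine dvd_trans ?_ (Subgroup.card_subgroup_dvd_card N)
    rw [← h1, pow_two]
    exact Nat.mul_dvd_mul_left p h)
  obtain ⟨H0, hH0⟩ := Subgroup.exists_right_complement'_of_coprime (N := P.subgroupOf N)
    (by rw [hcardPN]; exact hp.out.coprime_iff_not_dvd.2 hidx)
  set Hc := H0.map N.subtype
  have hHcard : (Nat.card Hc : K) ≠ 0 := by
    rw [Subgroup.card_map_of_injective N.subtype_injective]
    intro h
    apply hidx
    rw [hH0.symm.index_eq_card]
    exact (CharP.cast_eq_zero_iff K p _).1 h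
  have hnorm : ∀ h ∈ Hc, ∃ a : ℕ, h * x * h⁻¹ = x ^ a := by
    rintro _ ⟨h, -, rfl⟩
    exact exists_eq_pow hx ((Subgroup.mem_normalizer_iff.1 h.2 x).1 hxP)
  obtain ⟨π, hidem, hπH, hπx, hself, hπ1, hrank, hd3, Y₀, hY₀, hd2⟩ :=
    exists_projection θ hxp Hc hHcard hnorm hn1 (by omega) hpow hne (by omega)
  set Θ := adAct θ
  have hπN : ∀ g ∈ N, Θ g * π = π * Θ g := by
    intro g hg
    obtain ⟨⟨⟨u, hu⟩, ⟨h, hh⟩⟩, hval⟩ := (Subgroup.isComplement'_def.1 hH0).2 (⟨g, hg⟩ : N)
    have e : g = (u : G) * (h : G) := (congrArg Subtype.val hval).symm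
    obtain ⟨a, ha⟩ := exists_eq_pow hx (Subgroup.mem_subgroupOf.1 hu)
    rw [e, ha, map_mul, map_pow, mul_assoc, hπH (h : G) (Subgroup.mem_map_of_mem _ hh), ← mul_assoc,
      (Commute.pow_left hπx a).eq, mul_assoc]
  have hfree : ∀ g, g ∉ N → ∀ u ∈ P, g⁻¹ * u * g ∈ N → u = 1 := by
    intro g hg u hu hmem
    by_contra hu1
    have hup : u ^ p = 1 := by
      have := pow_card_eq_one' (x := (⟨u, hu⟩ : P))
      rw [hP] at this
      exact congrArg Subtype.val this
    have hy : g⁻¹ * u * g ∈ P := mem_of_pow_prime_eq_one hP hsq hmem (by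
      rw [show g⁻¹ * u * g = g⁻¹ * u * g⁻¹⁻¹ by rw [inv_inv], conj_pow, hup]; group)
    have hzu : Subgroup.zpowers u = P := Subgroup.eq_of_le_of_card_ge (Subgroup.zpowers_le.2 hu)
      (by rw [hP, Nat.card_zpowers, orderOf_eq_prime hup hu1])
    have hgi : g⁻¹ ∈ N := by
      rw [hNdef, Subgroup.mem_normalizer_iff_map_conj_eq]
      conv_lhs => rw [← hzu, MonoidHom.map_zpowers]
      refine Subgroup.eq_of_le_of_card_ge (Subgroup.zpowers_le.2 ?_) (le_of_eq ?_)
      · show g⁻¹ * u * g⁻¹⁻¹ ∈ P
        rwa [inv_inv]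
      · rw [hP, Nat.card_zpowers]
        exact ((orderOf_injective (MulAut.conj g⁻¹).toMonoidHom (MulAut.conj g⁻¹).injective u).trans
          (orderOf_eq_prime hup hu1)).symm
    exact hg (by simpa using inv_mem hgi)
  have hd : (Θ x - 1) ^ (p - 1) = 0 := pow_eq_zero_of_le (by omega) (adAct_sub_one_pow θ hpow)
  obtain ⟨m, W, hWdef, hWinv, hWker, e, he⟩ :=
    exists_stable_image Θ hPN π hπN hP hx hfree hd hidem
  set T := relTr Θ N π
  set tr := LinearMap.trace K V
  have hTself : ∀ (i : ℕ) Y Z, tr ((T ^ i : Module.End K (Module.End K V)) Y * Z) =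
      tr (Y * (T ^ i : Module.End K (Module.End K V)) Z) := by
    intro i
    induction i with
    | zero => intro Y Z; rfl
    | succ i ih =>
      intro Y Z
      rw [pow_succ, Module.End.mul_apply, ih,
        show (T ^ i * T : Module.End K (Module.End K V)) = T * T ^ i from (Commute.self_pow T i).symm.eq,
        Module.End.mul_apply]
      set Z' := (T ^ i : Module.End K (Module.End K V)) Z
      simp only [T, relTr, LinearMap.sum_apply, Module.End.mul_apply, Finset.sum_mul, Finset.mul_sum,
        map_sum]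
      refine Finset.sum_congr rfl fun q _ => ?_
      rw [trace_adAct, hself, trace_adAct, inv_inv]
  have hT1 : ∀ i : ℕ, 0 < i → (T ^ i : Module.End K (Module.End K V)) 1 = 0 := by
    have h1 : T 1 = 0 := by
      simp only [T, relTr, LinearMap.sum_apply, Module.End.mul_apply]
      refine Finset.sum_eq_zero fun q _ => ?_
      have : Θ q.out⁻¹ 1 = (1 : Module.End K V) := by
        rw [adAct_apply, mul_one, inv_inv, ← map_mul, inv_mul_cancel, map_one]
      rw [this, hπ1, map_zero]
    intro i hi
    obtain ⟨j, rfl⟩ := Nat.exists_eq_add_one_of_ne_zero hi.ne'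
    rw [pow_succ, Module.End.mul_apply, h1, map_zero]
  have hW3 : Module.finrank K W = 3 := e.finrank_eq.symm.trans hrank
  have htrnd : ∀ A : Module.End K V, (∀ Z, tr (A * Z) = 0) → A = 0 := by
    intro A hA
    refine LinearMap.ext fun v => ?_
    by_contra hne
    obtain ⟨φ, hφ⟩ : ∃ φ : Module.Dual K V, φ (A v) ≠ 0 := by
      by_contra h0
      push Not at h0
      exact hne ((Module.forall_dual_apply_eq_zero_iff K (A v)).1 h0)
    have h1 := hA (φ.smulRight v)
    have h2 : A * φ.smulRight v = φ.smulRight (A v) := LinearMap.ext fun w => by simp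
    rw [h2] at h1
    exact hφ (by rwa [LinearMap.trace_smulRight] at h1)
  have hm0 : 0 < m := by
    by_contra h
    have : m = 0 := by omega
    subst this
    rw [pow_zero, Module.End.one_eq_id, LinearMap.range_id] at hWdef
    have h9 : Module.finrank K (Module.End K V) = 3 := by
      rw [← finrank_top K (Module.End K V), ← hWdef, hW3]
    rw [Module.finrank_linearMap] at h9
    rcases Nat.lt_or_ge (Module.finrank K V) 2 with h | h
    · omega
    · have := Nat.mul_le_mul h h
      omega
  let B : LinearMap.BilinForm K W := LinearMap.mk₂ K (fun a b => tr ((a : Module.End K V) * b))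
    (fun a a' b => by simp [add_mul]) (fun c a b => by simp)
    (fun a b b' => by simp [mul_add]) (fun c a b => by simp)
  have hBsymm : ∀ a b : W, B a b = B b a := fun a b => LinearMap.trace_mul_comm K _ _
  have hBnd : ∀ a : W, (∀ b, B a b = 0) → a = 0 := by
    intro a ha
    refine Subtype.ext (hWker a a.2 (htrnd _ fun Z => ?_))
    rw [hTself]
    exact ha ⟨_, hWdef ▸ LinearMap.mem_range_self _ Z⟩
  let τ₀ : G →* Module.End K W := subAct Θ (W := W) hWinv
  have hiso : ∀ g (a b : W), B (τ₀ g a) (τ₀ g b) = B a b := fun g a b => by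
    show tr (Θ g (a : Module.End K V) * Θ g b) = tr ((a : Module.End K V) * b)
    rw [trace_adAct, ← Module.End.mul_apply (Θ g⁻¹), ← map_mul, inv_mul_cancel, map_one,
      Module.End.one_apply]
  have hinv0 : ∀ v ∈ LinearMap.range π, Θ x v ∈ LinearMap.range π := by
    rintro _ ⟨v, rfl⟩
    exact ⟨Θ x v, (LinearMap.congr_fun hπx v).symm⟩
  set Dx := τ₀ x - 1 with hDx
  have hed : ∀ (j : ℕ) (v : LinearMap.range π),
      ∃ h : ((Θ x - 1) ^ j : Module.End K (Module.End K V)) (v : Module.End K V) ∈ LinearMap.range π,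
        e ⟨_, h⟩ = (Dx ^ j : Module.End K W) (e v) := by
    intro j
    induction j with
    | zero => intro v; exact ⟨v.2, rfl⟩
    | succ j ihj =>
      intro v
      obtain ⟨h, he'⟩ := ihj v
      have h' : ((Θ x - 1) ^ (j + 1) : Module.End K (Module.End K V)) (v : Module.End K V) ∈
          LinearMap.range π := by
        rw [pow_succ', Module.End.mul_apply, LinearMap.sub_apply, Module.End.one_apply]
        exact sub_mem (hinv0 _ h) h
      refine ⟨h', ?_⟩
      rw [show (Dx ^ (j + 1) : Module.End K W) (e v) = Dx ((Dx ^ j : Module.End K W) (e v)) by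
        rw [pow_succ']; rfl, ← he']
      refine Subtype.ext ?_
      have h1 : (⟨_, h'⟩ : LinearMap.range π) = ⟨Θ x _, hinv0 _ h⟩ - ⟨_, h⟩ := Subtype.ext (by
        simp [pow_succ'])
      rw [h1, map_sub, Submodule.coe_sub, he ⟨_, h⟩ (hinv0 _ h)]
      rfl
  have hD3 : Dx ^ 3 = 0 := by
    refine LinearMap.ext fun w => ?_
    obtain ⟨v, rfl⟩ := e.surjective w
    obtain ⟨h, he'⟩ := hed 3 v
    rw [← he', LinearMap.zero_apply]
    exact e.map_eq_zero_iff.2 (Subtype.ext (hd3 _ v.2))
  have hD2 : Dx ^ 2 ≠ 0 := by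
    intro h0
    obtain ⟨h, he'⟩ := hed 2 ⟨Y₀, hY₀⟩
    rw [h0, LinearMap.zero_apply] at he'
    exact hd2 (congrArg Subtype.val (e.map_eq_zero_iff.1 he'))
  set f := τ₀.toHomUnits
  set Hb := f.range
  let τ : Hb →* Module.End K W := (Units.coeHom _).comp Hb.subtype
  have hτinj : Function.Injective τ := fun a b h => Subtype.ext (Units.ext h)
  set q := f.rangeRestrict with hq
  have hqs : Function.Surjective q := f.rangeRestrict_surjective
  haveI : Finite Hb := Finite.of_surjective q hqs
  have hxb : q x ≠ 1 := fun h => hD2 (by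
    have h1 : τ₀ x = 1 := congrArg (fun y : Hb => ((y : (Module.End K W)ˣ) : Module.End K W)) h
    show (τ₀ x - 1 : Module.End K W) ^ 2 = 0
    rw [h1, sub_self (1 : Module.End K W), zero_pow two_ne_zero])
  have hPb : P.map q = Subgroup.zpowers (q x) := by rw [← hx, MonoidHom.map_zpowers]
  have hPbcard : Nat.card (P.map q) = p := by
    rw [hPb, Nat.card_zpowers]
    exact orderOf_eq_prime (by rw [← map_pow, hxp, map_one]) hxb
  have hsqb : ¬ p ^ 2 ∣ Nat.card Hb := fun h =>
    hsq (h.trans (Subgroup.card_dvd_of_surjective q hqs))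
  have hgenb : Subgroup.normalClosure ((P.map q : Subgroup Hb) : Set Hb) = ⊤ := by
    rw [Subgroup.coe_map, ← Subgroup.map_normalClosure _ q hqs, hgen,
      Subgroup.map_top_of_surjective q hqs]
  -- no common fixed vector
  haveI : Nontrivial W := Module.nontrivial_of_finrank_pos (R := K) (by omega)
  have hnnb : ¬ (P.map q).Normal := by
    intro hn'
    haveI := hn'
    have htop : P.map q = ⊤ := top_unique (hgenb ▸ Subgroup.normalClosure_le_normal le_rfl)
    obtain ⟨w, hw, hw0⟩ : ∃ w : W, τ₀ x w = w ∧ w ≠ 0 := by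
      obtain ⟨w, -, h1, h2⟩ := exists_fixed (f := τ₀ x) (r := 3) hD3 (W := ⊤) (fun w _ => trivial) top_ne_bot
      exact ⟨w, h1, h2⟩
    have hall : ∀ g, τ₀ g w = w := fun g => by
      obtain ⟨u, hu, hue⟩ : q g ∈ P.map q := htop ▸ Subgroup.mem_top _
      have h1 : τ₀ g = τ₀ u := congrArg (fun y : Hb => ((y : (Module.End K W)ˣ) : Module.End K W)) hue.symm
      obtain ⟨a, rfl⟩ := exists_eq_pow hx hu
      rw [h1]
      clear h1 hue hu
      induction a with
      | zero => rw [pow_zero, map_one]; rfl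
      | succ a ih => rw [pow_succ, map_mul, Module.End.mul_apply, hw, ih]
    obtain ⟨c, hc⟩ := exists_scalar θ hirr (w : Module.End K V) fun g => by
      have h1 : θ g * (w : Module.End K V) * θ g⁻¹ = w := by
        rw [← adAct_apply]; exact congrArg Subtype.val (hall g)
      conv_lhs => rw [← h1]
      rw [mul_assoc, mul_assoc, ← map_mul, inv_mul_cancel, map_one, mul_one]
    have htr0 : tr (w : Module.End K V) = 0 := by
      obtain ⟨Z, hZ⟩ : (w : Module.End K V) ∈ LinearMap.range (T ^ m) := hWdef ▸ w.2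
      rw [← hZ, ← mul_one ((T ^ m : Module.End K (Module.End K V)) Z), hTself, hT1 m hm0, mul_zero,
        map_zero]
    rw [hc, map_smul, LinearMap.trace_one, smul_eq_mul] at htr0
    have hc0 : c = 0 := (mul_eq_zero.1 htr0).resolve_right
      (cast_lt_ne_zero K p hdimpos.ne' (by omega))
    exact hw0 (Subtype.ext (by rw [hc, hc0, zero_smul]; rfl))
  exact ⟨Hb, inferInstance, inferInstance, q, hqs, hPbcard, hnnb, conic_count (K := K) (W := W)
    (p := p) (by omega) τ hτinj B
    (fun h => by
      obtain ⟨g, rfl⟩ := hqs h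
      exact hiso g)
    hBsymm hBnd hW3 hPbcard hsqb hgenb hnnb (x := q x) hPb.symm hD3 hD2⟩

/-- The irreducible case: the image on the conic. -/
theorem exists_conic_image {V : Type w} [AddCommGroup V] [Module K V]
    [FiniteDimensional K V] (hV : 2 * Module.finrank K V < p) (θ : G →* Module.End K V)
    (hirr : ∀ W : Submodule K V, Invariant θ W → W = ⊥ ∨ W = ⊤)
    {P : Subgroup G} (hP : Nat.card P = p) (hsq : ¬ p ^ 2 ∣ Nat.card G)
    (hgen : Subgroup.normalClosure (P : Set G) = ⊤)
    {x : G} (hx : Subgroup.zpowers x = P) (hx1 : θ x ≠ 1) :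
    ∃ (H : Type w) (_ : Group H) (_ : Finite H) (f : G →* H), Function.Surjective f ∧
      Nat.card (P.map f) = p ∧ ¬ (P.map f).Normal ∧
      Subgroup.centralizer ((P.map f : Subgroup H) : Set H) = P.map f ∧ ∃ k : ℕ, 1 ≤ k ∧
      (Subgroup.normalizer ((P.map f : Subgroup H) : Set H)).index = 1 + k * p ∧
      1 + k * (p - 2) ∣ 2 * (Subgroup.centralizer ((P.map f : Subgroup H) : Set H)).relIndex
        (Subgroup.normalizer ((P.map f : Subgroup H) : Set H)) ∧
      0 < (Subgroup.centralizer ((P.map f : Subgroup H) : Set H)).relIndex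
        (Subgroup.normalizer ((P.map f : Subgroup H) : Set H)) := by
  haveI : Nontrivial V := by
    by_contra h
    rw [not_nontrivial_iff_subsingleton] at h
    exact hx1 (LinearMap.ext fun v => Subsingleton.elim _ _)
  haveI : CharP (Module.End K V) p := charP_of_injective_algebraMap
    (FaithfulSMul.algebraMap_injective K (Module.End K V)) p
  have hxp : x ^ p = 1 := by
    have hxord : orderOf x = p := by rw [← Nat.card_zpowers, hx, hP]
    exact hxord ▸ pow_orderOf_eq_one x
  have hnil : IsNilpotent (θ x - 1) := ⟨p, by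
    rw [sub_pow_char_of_commute p (Commute.one_right _), ← map_pow, hxp, map_one, one_pow, sub_self]⟩
  have hfin : (θ x - 1) ^ Module.finrank K V = 0 := by
    have h1 := LinearMap.aeval_self_charpoly (θ x - 1)
    rw [IsNilpotent.charpoly_eq_X_pow_finrank hnil] at h1
    simpa using h1
  exact exists_conic_image_of_nilpotent (by omega) θ hirr hP hsq hgen hx hx1 hV hfin

/-- The irreducible case. -/
theorem le_two_mul_relIndex_of_irreducible {V : Type w} [AddCommGroup V] [Module K V]
    [FiniteDimensional K V] (hV : 2 * Module.finrank K V < p) (θ : G →* Module.End K V)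
    (hirr : ∀ W : Submodule K V, Invariant θ W → W = ⊥ ∨ W = ⊤)
    {P : Subgroup G} (hP : Nat.card P = p) (hsq : ¬ p ^ 2 ∣ Nat.card G)
    (hgen : Subgroup.normalClosure (P : Set G) = ⊤)
    {x : G} (hx : Subgroup.zpowers x = P) (hx1 : θ x ≠ 1) :
    p - 1 ≤ 2 * (Subgroup.centralizer (P : Set G)).relIndex (Subgroup.normalizer (P : Set G)) := by
  obtain ⟨H, _, _, f, hf, -, -, -, k, hk, -, hd, hpos⟩ :=
    exists_conic_image hV θ hirr hP hsq hgen hx hx1
  have h1 := Nat.le_of_dvd (by omega) hd
  have h2 : 1 * (p - 2) ≤ k * (p - 2) := Nat.mul_le_mul_right _ hk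
  have h3 := relIndex_map_le (p := p) f hf hP hsq
  omega

/-- The general case. -/
theorem le_two_mul_relIndex_of_small {V : Type w} [AddCommGroup V] [Module K V]
    [FiniteDimensional K V] [Nontrivial V] (hV : 2 * Module.finrank K V < p)
    (θ : G →* Module.End K V) (hker : ∀ g, θ g = 1 → ∃ j, g ^ p ^ j = 1)
    {P : Subgroup G} (hP : Nat.card P = p) (hsq : ¬ p ^ 2 ∣ Nat.card G)
    (hgen : Subgroup.normalClosure (P : Set G) = ⊤) (hnn : ¬ P.Normal) :
    p - 1 ≤ 2 * (Subgroup.centralizer (P : Set G)).relIndex (Subgroup.normalizer (P : Set G)) := by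
  haveI : Fact (Nat.Prime (Nat.card P)) := ⟨hP.symm ▸ hp.out⟩
  haveI : IsCyclic P := isCyclic_of_prime_card rfl
  obtain ⟨x, hx⟩ := Subgroup.isCyclic_iff_exists_zpowers_eq_top P |>.1 inferInstance
  rcases exists_irreducible_or_unipotent (x := x) hx hgen _ V θ rfl with
    ⟨U, i1, i2, i3, φ, h1, h2, h3⟩ | h
  · exact le_two_mul_relIndex_of_irreducible (by omega) φ h3 hP hsq hgen hx h2
  · exact absurd h (not_forall_unipotent hP hsq hnn θ hker _)

end Cfsg.Agent.SmallDegree
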