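import Mathlib.Analysis.Complex.Polynomial.Basic
import Mathlib.LinearAlgebra.Eigenspace.Triangularizable
import Mathlib.Algebra.Ring.GeomSum
import Cfsg.Agent.Lib.SmallDegree.Main

/-!
# Eigenvalues of an element of order `p` in a complex representation

* `exists_eigen_data`: the normaliser permutes `|N(P) : C(P)|` distinct eigenvalues of `x`.
* `relIndex_le_dim`: hence the dimension is at least `|N(P) : C(P)|`.
* `exists_smul_one_of_commute`: in case of equality the representation has only scalar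
  endomorphisms.
-/

set_option autoImplicit false
set_option linter.style.haveILetI false

namespace Cfsg.Agent.SmallDegree

universe u

variable {G : Type u} [Group G] [Finite G] {p : ℕ} [hp : Fact p.Prime] {n : ℕ}

/-- `|N(P) : C(P)|` translates of an eigenvector with distinct eigenvalues. -/
theorem exists_eigen_data (ρ : G →* Module.End ℂ (Fin n → ℂ)) {P : Subgroup G} {x : G}
    (hx : Subgroup.zpowers x = P) (hP : Nat.card P = p) (hρ : ρ x ≠ 1) :
    ∃ (ζ : ℂ) (v : Fin n → ℂ) (ι : Type u) (_ : Fintype ι) (g : ι → G) (μ : ι → ℂ), v ≠ 0 ∧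
      ρ x v = ζ • v ∧
      Fintype.card ι = (Subgroup.centralizer (P : Set G)).relIndex (Subgroup.normalizer (P : Set G)) ∧
      Function.Injective μ ∧ ∀ i, ρ (g i) v ≠ 0 ∧ ρ x (ρ (g i) v) = μ i • ρ (g i) v := by
  classical
  set f := ρ x with hf
  have hxord : orderOf x = p := by rw [← Nat.card_zpowers, hx, hP]
  have hfp : f ^ p = 1 := by rw [hf, ← map_pow, ← hxord, pow_orderOf_eq_one, map_one]
  set S : Module.End ℂ (Fin n → ℂ) := ∑ i ∈ Finset.range p, f ^ i with hS
  have hprod : (f - 1) * S = 0 := by rw [hS, mul_geom_sum, hfp, sub_self]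
  have hne : LinearMap.ker S ≠ ⊥ := by
    intro hb
    refine hρ (sub_eq_zero.1 (LinearMap.ext fun v => ?_))
    obtain ⟨w, rfl⟩ := (LinearMap.injective_iff_surjective.1 (LinearMap.ker_eq_bot.1 hb)) v
    exact LinearMap.congr_fun hprod w
  have hcomm : Commute f S := Commute.sum_right _ _ _ fun i _ => Commute.self_pow f i
  have hinv : ∀ v ∈ LinearMap.ker S, f v ∈ LinearMap.ker S := fun v hv => by
    show S (f v) = 0
    rw [← Module.End.mul_apply, ← hcomm.eq, Module.End.mul_apply, show S v = 0 from hv, map_zero]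
  haveI : Nontrivial (LinearMap.ker S) := Submodule.nontrivial_iff_ne_bot.2 hne
  obtain ⟨ζ, hζ⟩ := Module.End.exists_eigenvalue (f.restrict hinv)
  obtain ⟨v, hv⟩ := hζ.exists_hasEigenvector
  have hv0 : (v : Fin n → ℂ) ≠ 0 := fun h => hv.2 (Subtype.ext h)
  have hfv : f v = ζ • (v : Fin n → ℂ) := congrArg Subtype.val hv.apply_eq_smul
  have hpow : ∀ i : ℕ, (f ^ i : Module.End ℂ (Fin n → ℂ)) v = ζ ^ i • (v : Fin n → ℂ) := fun i => by
    induction i with
    | zero => simp
    | succ i ih => rw [pow_succ', Module.End.mul_apply, ih, map_smul, hfv, smul_smul, pow_succ]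
  have hζ1 : ζ ≠ 1 := by
    intro h1
    have h2 : S v = 0 := v.2
    simp only [S, LinearMap.sum_apply] at h2
    simp only [hpow, h1, one_pow, one_smul, Finset.sum_const, Finset.card_range] at h2
    exact hv0 ((smul_eq_zero.1 h2).resolve_left hp.out.ne_zero)
  have hζp : ζ ^ p = 1 := by
    have h := hpow p
    rw [hfp, Module.End.one_apply] at h
    exact (sub_eq_zero.1 ((smul_eq_zero.1 (show (ζ ^ p - 1) • (v : Fin n → ℂ) = 0 by
      rw [sub_smul, one_smul, ← h, sub_self])).resolve_right hv0))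
  set N := Subgroup.normalizer (P : Set G)
  set C := Subgroup.centralizer (P : Set G)
  haveI := Fintype.ofFinite (N ⧸ C.subgroupOf N)
  have hxP : x ∈ P := hx ▸ Subgroup.mem_zpowers x
  have hex : ∀ q : N ⧸ C.subgroupOf N, ∃ a : ℕ, (q.out : G) * x * (q.out : G)⁻¹ = x ^ a :=
    fun q => exists_eq_pow hx ((Subgroup.mem_normalizer_iff.1 q.out.2 x).1 hxP)
  choose a ha using hex
  refine ⟨ζ, v, N ⧸ C.subgroupOf N, inferInstance, fun q => (q.out : G)⁻¹, fun q => ζ ^ a q, hv0, hfv,
    (Nat.card_eq_fintype_card).symm, ?_, fun q => ⟨fun h0 => hv0 ?_, ?_⟩⟩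
  · intro q r hqr
    have hord : orderOf ζ = p := orderOf_eq_prime hζp hζ1
    have hmod : ζ ^ (a q % p) = ζ ^ (a r % p) := by
      rw [← hord, pow_mod_orderOf, pow_mod_orderOf]
      exact hqr
    have hm2 : a q % p = a r % p := pow_injOn_Iio_orderOf
      (by rw [hord]; exact Nat.mod_lt _ hp.out.pos) (by rw [hord]; exact Nat.mod_lt _ hp.out.pos) hmod
    have he : (q.out : G) * x * (q.out : G)⁻¹ = (r.out : G) * x * (r.out : G)⁻¹ := by
      rw [ha, ha, ← pow_mod_orderOf x (a q), ← pow_mod_orderOf x (a r), hxord, hm2]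
    have hmem : q.out⁻¹ * r.out ∈ C.subgroupOf N := by
      rw [Subgroup.mem_subgroupOf, Subgroup.mem_centralizer_iff]
      intro u hu
      obtain ⟨i, rfl⟩ := exists_eq_pow hx hu
      have hc : Commute x ((q.out : G)⁻¹ * (r.out : G)) := by
        show x * ((q.out : G)⁻¹ * (r.out : G)) = (q.out : G)⁻¹ * (r.out : G) * x
        calc x * ((q.out : G)⁻¹ * (r.out : G))
            = (q.out : G)⁻¹ * ((q.out : G) * x * (q.out : G)⁻¹) * (r.out : G) := by group
          _ = (q.out : G)⁻¹ * (r.out : G) * x := by rw [he]; group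
      exact (hc.pow_left i).eq
    rw [← q.out_eq', ← r.out_eq']
    exact QuotientGroup.eq.2 hmem
  · have := congrArg (ρ (q.out : G)) h0
    rwa [← Module.End.mul_apply, ← map_mul, mul_inv_cancel, map_one, Module.End.one_apply,
      map_zero] at this
  · have e : x * (q.out : G)⁻¹ = (q.out : G)⁻¹ * x ^ a q := by rw [← ha q]; group
    rw [hf, ← Module.End.mul_apply, ← map_mul, e, map_mul, Module.End.mul_apply, map_pow, ← hf,
      hpow, map_smul]

/-- A faithful complex representation has dimension at least `|N(P) : C(P)|`. -/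
theorem relIndex_le_dim (ρ : G →* Module.End ℂ (Fin n → ℂ)) {P : Subgroup G} {x : G}
    (hx : Subgroup.zpowers x = P) (hP : Nat.card P = p) (hρ : ρ x ≠ 1) :
    (Subgroup.centralizer (P : Set G)).relIndex (Subgroup.normalizer (P : Set G)) ≤ n := by
  obtain ⟨ζ, v, ι, _, g, μ, hv, hxv, hcard, hμ, hb⟩ := exists_eigen_data ρ hx hP hρ
  rw [← hcard]
  have hli := Module.End.eigenvectors_linearIndependent' (ρ x) μ hμ (fun i => ρ (g i) v) fun i =>
    Module.End.hasEigenvector_iff.2 ⟨Module.End.mem_eigenspace_iff.2 (hb i).2, (hb i).1⟩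
  have := hli.fintype_card_le_finrank
  rwa [Module.finrank_fin_fun] at this

/-- If the dimension is `|N(P) : C(P)|`, only scalars commute with the representation. -/
theorem exists_smul_one_of_commute (ρ : G →* Module.End ℂ (Fin n → ℂ)) {P : Subgroup G} {x : G}
    (hx : Subgroup.zpowers x = P) (hP : Nat.card P = p) (hρ : ρ x ≠ 1)
    (hn : n ≤ (Subgroup.centralizer (P : Set G)).relIndex (Subgroup.normalizer (P : Set G)))
    (T : Module.End ℂ (Fin n → ℂ)) (hT : ∀ g, T * ρ g = ρ g * T) : ∃ c : ℂ, T = c • 1 := by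
  classical
  obtain ⟨ζ, v, ι, _, g, μ, hv, hxv, hcard, hμ, hb⟩ := exists_eigen_data ρ hx hP hρ
  have hli := Module.End.eigenvectors_linearIndependent' (ρ x) μ hμ (fun i => ρ (g i) v) fun i =>
    Module.End.hasEigenvector_iff.2 ⟨Module.End.mem_eigenspace_iff.2 (hb i).2, (hb i).1⟩
  have hle := hli.fintype_card_le_finrank
  rw [Module.finrank_fin_fun, hcard] at hle
  haveI : Nonempty ι := Fintype.card_pos_iff.1 <| by
    rw [hcard]
    refine Nat.pos_of_ne_zero fun h0 => ?_
    rw [h0, Nat.le_zero] at hn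
    subst hn
    exact hv (Subsingleton.elim _ _)
  let b := basisOfLinearIndependentOfCardEqFinrank hli (by rw [Module.finrank_fin_fun, hcard]; omega)
  have hbq : ∀ i, b i = ρ (g i) v := fun i => congrFun (coe_basisOfLinearIndependentOfCardEqFinrank _ _) i
  -- the eigenspace of `ζ` is the line through `v`
  have hcoef : ∀ w, ρ x w = ζ • w → ∀ i, μ i ≠ ζ → b.repr w i = 0 := by
    intro w hw i hi
    have h1 : b.repr (ρ x w) i = μ i * b.repr w i := by
      conv_lhs => rw [← b.sum_repr w, map_sum, map_sum]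
      rw [Finsupp.finsetSum_apply, Finset.sum_eq_single i]
      · rw [map_smul, hbq, (hb i).2, ← hbq, smul_smul, map_smul, b.repr_self, Finsupp.smul_single,
          Finsupp.single_eq_same, smul_eq_mul, mul_one, mul_comm]
      · intro j _ hj
        rw [map_smul, hbq, (hb j).2, ← hbq, smul_smul, map_smul, b.repr_self, Finsupp.smul_single,
          Finsupp.single_eq_of_ne hj.symm]
      · exact fun h => absurd (Finset.mem_univ i) h
    rw [hw, map_smul, Finsupp.smul_apply, smul_eq_mul] at h1
    have h2 : (μ i - ζ) * b.repr w i = 0 := by linear_combination -h1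
    exact (mul_eq_zero.1 h2).resolve_left (sub_ne_zero.2 hi)
  obtain ⟨i0, hi0⟩ : ∃ i, μ i = ζ := by
    by_contra h
    push Not at h
    exact hv (b.repr.map_eq_zero_iff.1 (Finsupp.ext fun i => hcoef v hxv i (h i)))
  have hline : ∀ w, ρ x w = ζ • w → w = b.repr w i0 • b i0 := by
    intro w hw
    conv_lhs => rw [← b.sum_repr w]
    refine Finset.sum_eq_single i0 (fun j _ hj => ?_) (fun h => absurd (Finset.mem_univ i0) h)
    rw [hcoef w hw j (fun h => hj (hμ (h.trans hi0.symm))), zero_smul]
  have hTv : ρ x (T v) = ζ • T v := by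
    rw [← Module.End.mul_apply, ← hT, Module.End.mul_apply, hxv, map_smul]
  set d := b.repr v i0
  have hd : d ≠ 0 := fun h => hv (by rw [hline v hxv]; change d • b i0 = 0; rw [h, zero_smul])
  set c := b.repr (T v) i0 / d
  have hTv' : T v = c • v := by
    conv_rhs => rw [hline v hxv, smul_smul]
    rw [div_mul_cancel₀ _ hd]
    exact hline _ hTv
  refine ⟨c, b.ext fun i => ?_⟩
  rw [hbq, ← Module.End.mul_apply, hT, Module.End.mul_apply, hTv', map_smul, LinearMap.smul_apply,
    Module.End.one_apply]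

end Cfsg.Agent.SmallDegree
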