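import Cfsg.Agent.Lib.Char.ModularTrace
import Mathlib.FieldTheory.IsAlgClosed.AlgebraicClosure

/-!
# Reduction modulo `p` of a complex representation

* `exists_reduction`: a faithful complex matrix representation of a finite group gives a
  representation of the same degree over an algebraically closed field of characteristic `p` whose
  kernel consists of `p`-elements.
-/

set_option autoImplicit false

namespace Cfsg.Agent.SmallDegree

open Matrix

universe u

/-- A valuation ring of `ℂ` over the prime `p`. -/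
theorem exists_valuationSubring (p : ℕ) (hp : p.Prime) :
    ∃ A : ValuationSubring ℂ, ((p : ℕ) : A) ∈ IsLocalRing.maximalIdeal A := by
  let A₀ : Subring ℂ := (Int.castRingHom ℂ).range
  have hI : Ideal.span {((p : ℕ) : A₀)} ≠ ⊤ := by
    rw [Ne, Ideal.span_singleton_eq_top, isUnit_iff_exists_inv]
    rintro ⟨⟨_, m, rfl⟩, hm⟩
    have h1 : ((p : ℂ)) * (m : ℂ) = 1 := congrArg Subtype.val hm
    have h2 : ((p : ℤ) * m : ℤ) = 1 := by exact_mod_cast h1
    have h3 := Int.eq_one_of_mul_eq_one_right (by positivity) h2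
    exact hp.one_lt.ne' (by exact_mod_cast h3)
  obtain ⟨A, -, hA⟩ := Ideal.image_subset_nonunits_valuationSubring _ hI
  refine ⟨A, ?_⟩
  have := hA ⟨((p : ℕ) : A₀), Ideal.mem_span_singleton_self _, rfl⟩
  rw [SetLike.mem_coe, ValuationSubring.mem_nonunits_iff_exists_mem_maximalIdeal] at this
  obtain ⟨_, h⟩ := this
  convert h using 1
  exact Subtype.ext (by simp)

variable {G : Type u} [Group G] [Finite G] {n : ℕ}

/-- Reduction modulo `p`: the kernel consists of `p`-elements, and an element annihilated by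
`∏ (X - ζ)`, the `ζ` running over `m` roots of unity of order dividing `p`, reduces to a unipotent
element with `(ρ g - 1) ^ m = 0`. -/
theorem exists_reduction_poly (p : ℕ) [hp : Fact p.Prime] (M : G →* Matrix (Fin n) (Fin n) ℂ)
    (hM : ∀ g, M g = 1 → g = 1) :
    ∃ (k : Type) (_ : Field k) (_ : IsAlgClosed k) (_ : CharP k p)
      (ρ : G →* Module.End k (Fin n → k)), (∀ g, ρ g = 1 → ∃ j, g ^ p ^ j = 1) ∧
        ∀ (g : G) (s : Finset ℂ), (∀ ζ ∈ s, ζ ^ p = 1) →
          Polynomial.aeval (M g) (∏ ζ ∈ s, (Polynomial.X - Polynomial.C ζ)) = 0 →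
          (ρ g - 1) ^ s.card = 0 := by
  classical
  haveI := Fintype.ofFinite G
  obtain ⟨A, hpA⟩ := exists_valuationSubring p hp.out
  obtain ⟨B, hB, hint⟩ := Char.ModularTrace.exists_integral_basis A M
  let R : G →* Matrix (Fin n) (Fin n) A :=
    { toFun := fun g => Matrix.of fun i j => ⟨(B⁻¹ * M g * B) i j, hint g i j⟩
      map_one' := by
        ext i j
        simp [Matrix.nonsing_inv_mul B hB, Matrix.one_apply]
        split_ifs <;> simp
      map_mul' := fun g h => by
        refine Matrix.map_injective (f := A.subtype) Subtype.val_injective ?_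
        simp only
        rw [Matrix.map_mul]
        show B⁻¹ * M (g * h) * B = (B⁻¹ * M g * B) * (B⁻¹ * M h * B)
        rw [map_mul]
        simp [mul_assoc, Matrix.mul_nonsing_inv_cancel_left B _ hB] }
  have hRinj : ∀ g, R g = 1 → g = 1 := fun g hg => by
    refine hM g ?_
    have h : B⁻¹ * M g * B = 1 := by
      have h' := congrArg (fun X : Matrix (Fin n) (Fin n) A => X.map A.subtype) hg
      simp only [Matrix.map_one A.subtype (map_zero _) (map_one _)] at h'
      exact h'
    calc M g = B * (B⁻¹ * M g * B) * B⁻¹ := by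
          rw [← mul_assoc, ← mul_assoc, Matrix.mul_nonsing_inv B hB, one_mul, mul_assoc,
            Matrix.mul_nonsing_inv B hB, mul_one]
      _ = 1 := by rw [h, mul_one, Matrix.mul_nonsing_inv B hB]
  let k0 := IsLocalRing.ResidueField A
  haveI : CharP k0 p := by
    refine CharP.charP_iff_prime_eq_zero hp.out |>.2 ?_
    rw [← map_natCast (IsLocalRing.residue A)]
    exact (IsLocalRing.residue_eq_zero_iff _).2 hpA
  let k := AlgebraicClosure k0
  haveI : CharP k p := charP_of_injective_algebraMap (algebraMap k0 k).injective p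
  let f : A →+* k := (algebraMap k0 k).comp (IsLocalRing.residue A)
  let ρ : G →* Module.End k (Fin n → k) :=
    ((Matrix.toLinAlgEquiv' : Matrix (Fin n) (Fin n) k ≃ₐ[k] _).toAlgHom.toMonoidHom.comp
      f.mapMatrix.toMonoidHom).comp R
  have hpoly : ∀ (g : G) (s : Finset ℂ), (∀ ζ ∈ s, ζ ^ p = 1) →
      Polynomial.aeval (M g) (∏ ζ ∈ s, (Polynomial.X - Polynomial.C ζ)) = 0 →
      (ρ g - 1) ^ s.card = 0 := by
    intro g s hs h0
    have hA : ∀ ζ ∈ s, ζ ∈ A := fun ζ hζ => by
      rcases A.mem_or_inv_mem ζ with h | h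
      · exact h
      · have e : ζ = ζ⁻¹ ^ (p - 1) := by
          have hne : ζ ≠ 0 := fun h' => by
            have h1 := hs ζ hζ
            rw [h', zero_pow hp.out.ne_zero] at h1
            exact zero_ne_one h1
          rw [inv_pow]
          refine eq_inv_of_mul_eq_one_left ?_
          rw [← pow_succ', Nat.sub_add_cancel hp.out.one_le, hs ζ hζ]
        rw [e]
        exact pow_mem h _
    let Q : Polynomial A := ∏ ζ : s, (Polynomial.X - Polynomial.C ⟨ζ.1, hA _ ζ.2⟩)
    have hQ : Q.map A.subtype = ∏ ζ ∈ s, (Polynomial.X - Polynomial.C ζ) := by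
      simp only [Q, Polynomial.map_prod, Polynomial.map_sub, Polynomial.map_X, Polynomial.map_C]
      exact Finset.prod_coe_sort s fun ζ => Polynomial.X - Polynomial.C ζ
    have hR : Polynomial.aeval (R g) Q = 0 := by
      refine Matrix.map_injective (f := A.subtype) Subtype.val_injective ?_
      show A.subtype.mapMatrix (Polynomial.aeval (R g) Q) = A.subtype.mapMatrix 0
      rw [Polynomial.map_aeval_eq_aeval_map (φ := A.subtype) (ψ := A.subtype.mapMatrix)
        (RingHom.ext fun a => by
          ext i j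
          by_cases hij : i = j
          · subst hij; simp [Matrix.algebraMap_eq_diagonal]
          · simp [Matrix.algebraMap_eq_diagonal, hij]) Q (R g), hQ, map_zero]
      have he : A.subtype.mapMatrix (R g) = B⁻¹ * M g * B := rfl
      rw [he]
      let u : (Matrix (Fin n) (Fin n) ℂ)ˣ :=
        ⟨B⁻¹, B, Matrix.nonsing_inv_mul B hB, Matrix.mul_nonsing_inv B hB⟩
      let φ : Matrix (Fin n) (Fin n) ℂ →ₐ[ℂ] Matrix (Fin n) (Fin n) ℂ :=
        (MulSemiringAction.toAlgEquiv ℂ (Matrix (Fin n) (Fin n) ℂ) (ConjAct.toConjAct u)).toAlgHom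
      have hφ : ∀ X, φ X = B⁻¹ * X * B := fun X => rfl
      rw [← hφ, Polynomial.aeval_algHom_apply, h0, map_zero]
    let ι : Polynomial k →+* Module.End k (Fin n → k) := (Polynomial.aeval (ρ g)).toRingHom
    have hk : Polynomial.aeval (ρ g) (Q.map f) = 0 := by
      have h1 : Polynomial.aeval (f.mapMatrix (R g)) (Q.map f) = 0 := by
        rw [← Polynomial.map_aeval_eq_aeval_map (φ := f) (ψ := f.mapMatrix)
          (RingHom.ext fun a => by
            ext i j
            by_cases hij : i = j
            · subst hij; simp [Matrix.algebraMap_eq_diagonal]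
            · simp [Matrix.algebraMap_eq_diagonal, hij]) Q (R g), hR, map_zero]
      show Polynomial.aeval ((Matrix.toLinAlgEquiv' : Matrix (Fin n) (Fin n) k ≃ₐ[k] _).toAlgHom
        (f.mapMatrix (R g))) (Q.map f) = 0
      rw [Polynomial.aeval_algHom_apply, h1, map_zero]
    have hQf : Q.map f = (Polynomial.X - 1) ^ s.card := by
      simp only [Q, Polynomial.map_prod, Polynomial.map_sub, Polynomial.map_X, Polynomial.map_C]
      rw [Finset.prod_congr rfl fun ζ _ => show Polynomial.X -
          Polynomial.C (f ⟨ζ.1, hA _ ζ.2⟩) = (Polynomial.X - 1 : Polynomial k) by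
        have h1 : f ⟨ζ.1, hA _ ζ.2⟩ ^ p = 1 := by
          rw [← map_pow, show (⟨ζ.1, hA _ ζ.2⟩ : A) ^ p = 1 from Subtype.ext (by simpa using hs _ ζ.2),
            map_one]
        have h2 : (f ⟨ζ.1, hA _ ζ.2⟩ - 1) ^ p = 0 := by rw [sub_pow_char, h1, one_pow, sub_self]
        rw [sub_eq_zero.1 (pow_eq_zero_iff hp.out.ne_zero |>.1 h2), map_one],
        Finset.prod_const, Finset.card_univ, Fintype.card_coe]
    rw [hQf, map_pow, map_sub, Polynomial.aeval_X, map_one] at hk
    exact hk
  refine ⟨k, inferInstance, inferInstance, inferInstance, ρ, fun g hg => ?_, hpoly⟩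
  have hg0 : orderOf g ≠ 0 := (orderOf_pos g).ne'
  set j := (orderOf g).factorization p with hj
  set m := orderOf g / p ^ j with hm
  have hdvd : p ^ j ∣ orderOf g := Nat.ordProj_dvd _ _
  have hpm : ¬ p ∣ m := Nat.not_dvd_ordCompl hp.out hg0
  refine ⟨j, ?_⟩
  set h := g ^ p ^ j with hh
  have hhm : h ^ m = 1 := by
    rw [hh, ← pow_mul, Nat.mul_div_cancel' hdvd, pow_orderOf_eq_one]
  have hρh : ρ h = 1 := by rw [hh, map_pow, hg, one_pow]
  refine hRinj h ?_
  have h1 : f.mapMatrix (R h) = 1 := by
    apply (Matrix.toLinAlgEquiv' : Matrix (Fin n) (Fin n) k ≃ₐ[k] _).injective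
    rw [map_one]
    exact hρh
  have hgeo := mul_geom_sum (R h) m
  rw [← map_pow, hhm, map_one, sub_self] at hgeo
  have hdet : (∑ i ∈ Finset.range m, R h ^ i).det ≠ 0 := by
    intro h0
    have h2 : f (∑ i ∈ Finset.range m, R h ^ i).det = 0 := by rw [h0, map_zero]
    rw [RingHom.map_det, map_sum] at h2
    simp only [map_pow, h1, one_pow, Finset.sum_const, Finset.card_range] at h2
    rw [nsmul_eq_mul, mul_one, ← Matrix.diagonal_natCast, Matrix.det_diagonal, Finset.prod_const]
      at h2
    exact hpm ((CharP.cast_eq_zero_iff k p m).1 (eq_zero_of_pow_eq_zero h2))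
  have h3 := congrArg (fun X => X * (∑ i ∈ Finset.range m, R h ^ i).adjugate) hgeo
  simp only [zero_mul, mul_assoc, Matrix.mul_adjugate, Matrix.mul_smul, mul_one] at h3
  exact sub_eq_zero.1 ((smul_eq_zero.1 h3).resolve_left hdet)

/-- Reduction modulo `p`: the kernel consists of `p`-elements. -/
theorem exists_reduction (p : ℕ) [hp : Fact p.Prime] (M : G →* Matrix (Fin n) (Fin n) ℂ)
    (hM : ∀ g, M g = 1 → g = 1) :
    ∃ (k : Type) (_ : Field k) (_ : IsAlgClosed k) (_ : CharP k p)
      (ρ : G →* Module.End k (Fin n → k)), ∀ g, ρ g = 1 → ∃ j, g ^ p ^ j = 1 := by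
  obtain ⟨k, i1, i2, i3, ρ, h, -⟩ := exists_reduction_poly p M hM
  exact ⟨k, i1, i2, i3, ρ, h⟩

end Cfsg.Agent.SmallDegree
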