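import Mathlib.LinearAlgebra.BilinearForm.Properties
import Mathlib.LinearAlgebra.Matrix.BilinearForm
import Mathlib.LinearAlgebra.Matrix.ToLin
import Mathlib.LinearAlgebra.Determinant
import Mathlib.FieldTheory.IsAlgClosed.Basic
import Mathlib.GroupTheory.Sylow
import Mathlib.Algebra.CharP.Lemmas
import Mathlib.Tactic.FieldSimp
import Mathlib.Tactic.LinearCombination

/-!
# Finite isometry groups of the conic in characteristic `p`

A finite group `H` of isometries of a three-dimensional nondegenerate symmetric space whose Sylow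
`p`-subgroup `P = ⟨x⟩` has order `p`, is regular unipotent, not normal and generates `H` normally
has `p - 1 ≤ 2 |N(P) : C(P)|`: count the fixed points on the conic.
-/

set_option autoImplicit false
set_option linter.style.haveILetI false

namespace Cfsg.Agent.SmallDegree

universe u v w

variable {K : Type v} [Field K] {W : Type w} [AddCommGroup W] [Module K W]

/-- An isotropic line. -/
def IsoLine (B : LinearMap.BilinForm K W) (ℓ : Submodule K W) : Prop :=
  ∃ v : W, v ≠ 0 ∧ B v v = 0 ∧ ℓ = K ∙ v

variable {H : Type u} [Group H] (τ : H →* Module.End K W) (B : LinearMap.BilinForm K W)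

/-- The isotropic lines fixed by an element. -/
def fixLines (h : H) : Set (Submodule K W) := {ℓ | IsoLine B ℓ ∧ ℓ.map (τ h) = ℓ}

theorem tau_inv_tau (h : H) (v : W) : τ h⁻¹ (τ h v) = v := by
  rw [← Module.End.mul_apply, ← map_mul, inv_mul_cancel, map_one, Module.End.one_apply]

theorem tau_tau_inv (h : H) (v : W) : τ h (τ h⁻¹ v) = v := by
  rw [← Module.End.mul_apply, ← map_mul, mul_inv_cancel, map_one, Module.End.one_apply]

theorem tau_mul (a b : H) (v : W) : τ (a * b) v = τ a (τ b v) := by rw [map_mul]; rfl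

theorem line_map_mul (a b : H) (ℓ : Submodule K W) : ℓ.map (τ (a * b)) = (ℓ.map (τ b)).map (τ a) := by
  rw [← Submodule.map_comp, map_mul]; rfl

theorem line_map_one (ℓ : Submodule K W) : ℓ.map (τ 1) = ℓ := by
  rw [map_one]; exact Submodule.map_id ℓ

variable (hiso : ∀ h v w, B (τ h v) (τ h w) = B v w)

include hiso in
theorem isoLine_map {ℓ : Submodule K W} (h : IsoLine B ℓ) (g : H) : IsoLine B (ℓ.map (τ g)) := by
  obtain ⟨v, hv0, hv, rfl⟩ := h
  refine ⟨τ g v, fun h0 => hv0 ?_, by rw [hiso, hv], ?_⟩
  · rw [← tau_inv_tau τ g v, h0, map_zero]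
  · rw [Submodule.map_span, Set.image_singleton]

theorem exists_eigen_of_fix {h : H} {v : W} (he : (K ∙ v).map (τ h) = K ∙ v) :
    ∃ μ : K, τ h v = μ • v := by
  have : τ h v ∈ K ∙ v := he ▸ Submodule.mem_map_of_mem (Submodule.mem_span_singleton_self v)
  obtain ⟨μ, hμ⟩ := Submodule.mem_span_singleton.1 this
  exact ⟨μ, hμ.symm⟩

theorem fix_of_eigen {h : H} {v : W} {μ : K} (hμ : μ ≠ 0) (he : τ h v = μ • v) :
    (K ∙ v).map (τ h) = K ∙ v := by
  rw [Submodule.map_span, Set.image_singleton, he,
    Submodule.span_singleton_smul_eq (Ne.isUnit hμ)]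

include hiso in
theorem fixLines_conj (g h : H) :
    fixLines τ B (g * h * g⁻¹) = (fun ℓ => Submodule.map (τ g) ℓ) '' fixLines τ B h := by
  ext ℓ
  constructor
  · rintro ⟨hl, hf⟩
    refine ⟨ℓ.map (τ g⁻¹), ⟨isoLine_map τ B hiso hl _, ?_⟩, ?_⟩
    · rw [← line_map_mul]
      conv_rhs => rw [← hf, ← line_map_mul, show g⁻¹ * (g * h * g⁻¹) = h * g⁻¹ by group]
    · show (ℓ.map (τ g⁻¹)).map (τ g) = ℓ
      rw [← line_map_mul, mul_inv_cancel, line_map_one]
  · rintro ⟨m, ⟨hm, hf⟩, rfl⟩
    refine ⟨isoLine_map τ B hiso hm g, ?_⟩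
    show (m.map (τ g)).map (τ (g * h * g⁻¹)) = m.map (τ g)
    rw [← line_map_mul, inv_mul_cancel_right, line_map_mul, hf]

variable [IsAlgClosed K] [FiniteDimensional K W] (hsymm : ∀ v w, B v w = B w v)
  (hnd : ∀ v, (∀ w, B v w = 0) → v = 0) (hdim : Module.finrank K W = 3) (h2 : (2 : K) ≠ 0)

omit [IsAlgClosed K] in
include hiso hnd hdim h2 in
/-- An isometry of determinant one fixes a nonzero vector. -/
theorem exists_fixed_vector {h : H} (hdet : LinearMap.det (τ h) = 1) :
    ∃ a : W, a ≠ 0 ∧ τ h a = a := by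
  classical
  let b := Module.finBasisOfFinrankEq K W hdim
  set A := LinearMap.toMatrix b b (τ h) with hA
  set M := LinearMap.BilinForm.toMatrix b B with hM
  have hAMA : A.transpose * M * A = M := by
    rw [hA, hM, ← LinearMap.BilinForm.toMatrix_comp]
    congr 1
    exact LinearMap.ext fun v => LinearMap.ext fun w => hiso h v w
  have hMdet : M.det ≠ 0 := fun h0 => by
    obtain ⟨v, hv0, hv⟩ := Matrix.exists_vecMul_eq_zero_iff.2 h0
    refine hv0 ?_
    have : (b.equivFun.symm v) = 0 := hnd _ fun w => by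
      rw [LinearMap.BilinForm.apply_eq_dotProduct_toMatrix_mulVec b, ← hM, Matrix.dotProduct_mulVec,
        show ⇑(b.repr (b.equivFun.symm v)) = v from b.equivFun.apply_symm_apply v, hv, zero_dotProduct]
    exact b.equivFun.symm.injective (this.trans (map_zero _).symm)
  have hAdet : A.det = 1 := by rw [hA, LinearMap.det_toMatrix, hdet]
  have e : (A - 1).transpose * M * A = -(M * (A - 1)) := by
    rw [Matrix.transpose_sub, Matrix.transpose_one, sub_mul, sub_mul, hAMA, one_mul, mul_sub, mul_one,
      neg_sub]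
  have e2 := congrArg Matrix.det e
  rw [Matrix.det_mul, Matrix.det_mul, Matrix.det_transpose, hAdet, Matrix.det_neg, Matrix.det_mul,
    Fintype.card_fin] at e2
  have h0 : (A - 1).det = 0 := by
    have h3 : (2 : K) * (M.det * (A - 1).det) = 0 := by linear_combination e2
    exact (mul_eq_zero.1 ((mul_eq_zero.1 h3).resolve_left h2)).resolve_left hMdet
  have h4 : LinearMap.det (τ h - 1) = 0 := by
    rw [← LinearMap.det_toMatrix b, map_sub, ← hA, Module.End.one_eq_id, LinearMap.toMatrix_id, h0]
  obtain ⟨a, ha, ha0⟩ := Submodule.exists_mem_ne_zero_of_ne_bot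
    (show LinearMap.ker (τ h - 1) ≠ ⊥ from (LinearMap.bot_lt_ker_of_det_eq_zero h4).ne')
  exact ⟨a, ha0, sub_eq_zero.1 ha⟩

include hiso hsymm hnd hdim h2 in
/-- A nontrivial element of order prime to `p` fixes exactly two points of the conic. -/
theorem ncard_fixLines_of_semisimple {h : H} (hh : τ h ≠ 1) (hdet : LinearMap.det (τ h) = 1)
    {m : ℕ} (hm : h ^ m = 1) (hmK : (m : K) ≠ 0) : (fixLines τ B h).ncard = 2 := by
  classical
  obtain ⟨a₀, ha₀0, ha₀⟩ := exists_fixed_vector τ B hiso hnd hdim h2 hdet
  -- an anisotropic fixed vector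
  obtain ⟨a, ha, haa⟩ : ∃ a, τ h a = a ∧ B a a ≠ 0 := by
    by_cases haa : B a₀ a₀ ≠ 0
    · exact ⟨a₀, ha₀, haa⟩
    push Not at haa
    obtain ⟨c, hc⟩ : ∃ c, B a₀ c ≠ 0 := by
      by_contra h0
      push Not at h0
      exact ha₀0 (hnd a₀ h0)
    set b := ∑ i ∈ Finset.range m, τ (h ^ i) c with hb
    have hfix : ∀ i : ℕ, τ (h ^ i) a₀ = a₀ := fun i => by
      induction i with
      | zero => simp
      | succ i ih => rw [pow_succ, tau_mul, ha₀, ih]
    have hbfix : τ h b = b := by
      have e1 := Finset.sum_range_succ' (fun i => τ (h ^ i) c) m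
      rw [Finset.sum_range_succ, hm, pow_zero] at e1
      rw [hb, map_sum, add_right_cancel e1]
      exact Finset.sum_congr rfl fun i _ => by rw [pow_succ', tau_mul]
    have hab : B a₀ b = (m : K) * B a₀ c := by
      rw [hb, map_sum, Finset.sum_congr rfl (g := fun _ => B a₀ c) fun i _ => by
        conv_lhs => rw [← hfix i]
        exact hiso _ _ _]
      simp
    by_cases hbb : B b b = 0
    · refine ⟨a₀ + b, by rw [map_add, ha₀, hbfix], ?_⟩
      simp only [map_add, LinearMap.add_apply, haa, hbb, hsymm b a₀, hab]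
      intro h0
      exact mul_ne_zero h2 (mul_ne_zero hmK hc) (by linear_combination h0)
    · exact ⟨b, hbfix, hbb⟩
  have ha0 : a ≠ 0 := fun h0 => haa (by rw [h0]; simp)
  set O := LinearMap.ker (B a) with hO
  have hOdim : Module.finrank K O = 2 := by
    have hr := LinearMap.finrank_range_add_finrank_ker (B a)
    rw [LinearMap.range_eq_top.2 (LinearMap.surjective (f := B a) fun h0 => haa (by rw [h0]; rfl)),
      finrank_top, Module.finrank_self, hdim] at hr
    rw [hO]
    omega
  have hOinv : ∀ w ∈ O, τ h w ∈ O := fun w hw => by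
    show B a (τ h w) = 0
    rw [← ha, hiso]; exact hw
  -- an isotropic pair in `O`
  let bO := Module.finBasisOfFinrankEq K O hOdim
  obtain ⟨u, hu0, huO, huu⟩ : ∃ u : W, u ≠ 0 ∧ u ∈ O ∧ B u u = 0 := by
    set w1 : W := ((bO 0 : O) : W)
    set w2 : W := ((bO 1 : O) : W)
    have hw2 : w2 ≠ 0 := fun h0 => bO.ne_zero 1 (Subtype.ext h0)
    by_cases h22 : B w2 w2 = 0
    · exact ⟨w2, hw2, (bO 1).2, h22⟩
    obtain ⟨s, hs⟩ := IsAlgClosed.exists_eq_mul_self (B w1 w2 * B w1 w2 - B w1 w1 * B w2 w2)
    set t := (-B w1 w2 + s) / B w2 w2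
    refine ⟨w1 + t • w2, fun h0 => ?_, add_mem (bO 0).2 (Submodule.smul_mem _ _ (bO 1).2), ?_⟩
    · have h1 : (1 : K) • bO 0 + t • bO 1 = 0 := Subtype.ext (by simpa using h0)
      have h2 := congrArg (fun o => bO.repr o 0) h1
      simp at h2
    · simp only [map_add, LinearMap.add_apply, map_smul, LinearMap.smul_apply, hsymm w2 w1, t,
        smul_eq_mul]
      field_simp
      linear_combination -hs
  have hau : B a u = 0 := huO
  obtain ⟨v, hvO, hvv, huv⟩ : ∃ v : W, v ∈ O ∧ B v v = 0 ∧ B u v = 1 := by
    obtain ⟨w, hw, huw⟩ : ∃ w ∈ O, B u w ≠ 0 := by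
      by_contra h0
      push Not at h0
      refine hu0 (hnd u fun w => ?_)
      have hw : w - (B a w / B a a) • a ∈ O := by
        show B a (_ : W) = 0
        rw [map_sub, map_smul, smul_eq_mul, div_mul_cancel₀ _ haa, sub_self]
      have := h0 _ hw
      rw [map_sub, map_smul, hsymm u a, hau, smul_zero, sub_zero] at this
      exact this
    refine ⟨(B u w)⁻¹ • w - (B w w / (2 * B u w * B u w)) • u,
      sub_mem (Submodule.smul_mem _ _ hw) (Submodule.smul_mem _ _ huO), ?_, ?_⟩
    · simp only [map_sub, LinearMap.sub_apply, map_smul, LinearMap.smul_apply, smul_eq_mul, huu,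
        hsymm w u]
      field_simp
      ring
    · rw [map_sub, map_smul, map_smul, smul_eq_mul, smul_eq_mul, huu, mul_zero, sub_zero,
        inv_mul_cancel₀ huw]
  have hav : B a v = 0 := hvO
  have hua : B u a = 0 := (hsymm u a).trans hau
  have hva : B v a = 0 := (hsymm v a).trans hav
  have hvu : B v u = 1 := (hsymm v u).trans huv
  let e : Fin 3 → W := ![a, u, v]
  have hind : LinearIndependent K e := by
    rw [Fintype.linearIndependent_iff]
    intro g hg
    simp only [e, Fin.sum_univ_three, Matrix.cons_val_zero, Matrix.cons_val_one, Matrix.cons_val] at hg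
    have g0 := congrArg (B a) hg
    have g1 := congrArg (B v) hg
    have g2 := congrArg (B u) hg
    simp only [map_add, map_smul, smul_eq_mul, map_zero, hau, hav, huu, huv, hua, hva, hvu, hvv,
      mul_zero, add_zero, zero_add, mul_one] at g0 g1 g2
    intro i
    fin_cases i
    · exact (mul_eq_zero.1 g0).resolve_right haa
    · exact g1
    · exact g2
  let b3 := basisOfLinearIndependentOfCardEqFinrank hind (by rw [Fintype.card_fin, hdim])
  have hb3 : ⇑b3 = e := coe_basisOfLinearIndependentOfCardEqFinrank _ _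
  have hcoord : ∀ w : W, w = (B a w / B a a) • a + B v w • u + B u w • v := fun w => by
    have hw := (b3.sum_repr w).symm
    simp only [hb3, e, Fin.sum_univ_three, Matrix.cons_val_zero, Matrix.cons_val_one, Matrix.cons_val] at hw
    have g0 := congrArg (B a) hw
    have g1 := congrArg (B v) hw
    have g2 := congrArg (B u) hw
    simp only [map_add, map_smul, smul_eq_mul, hau, hav, huu, huv, hua, hva, hvu, hvv,
      mul_zero, add_zero, zero_add, mul_one] at g0 g1 g2
    rw [g0, g1, g2, mul_div_assoc, div_self haa, mul_one]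
    exact hw
  have hisoO : ∀ w ∈ O, B w w = 0 → w = B v w • u ∨ w = B u w • v := by
    intro w hw hww
    have hw' : B a w = 0 := hw
    have e1 := hcoord w
    rw [hw', zero_div, zero_smul, zero_add] at e1
    have h3 : (2 : K) * (B v w * B u w) = 0 := by
      have := congrArg (fun z => B z z) e1
      simp only [map_add, LinearMap.add_apply, map_smul, LinearMap.smul_apply, smul_eq_mul, huu, huv,
        hvu, hvv, hww, mul_zero, mul_one, add_zero, zero_add] at this
      linear_combination -this
    rcases mul_eq_zero.1 ((mul_eq_zero.1 h3).resolve_left h2) with h4 | h4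
    · right; conv_lhs => rw [e1, h4, zero_smul, zero_add]
    · left; conv_lhs => rw [e1, h4, zero_smul, add_zero]
  have himg : ∀ w, B w w = 0 → B (τ h w) (τ h w) = 0 := fun w hw => (hiso h w w).trans hw
  -- `h` does not interchange `u` and `v`
  obtain ⟨l, hl⟩ : ∃ l, τ h u = l • u := by
    rcases hisoO _ (hOinv u huO) (himg u huu) with h1 | h1
    · exact ⟨_, h1⟩
    exfalso
    set g := B u (τ h u)
    have hg0 : g ≠ 0 := fun h0 => hu0 (by rw [← tau_inv_tau τ h u, h1, h0, zero_smul, map_zero])
    have h2' : τ h v = g⁻¹ • u := by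
      have hB := hiso h u v
      rw [h1, map_smul, LinearMap.smul_apply, smul_eq_mul, huv] at hB
      rcases hisoO _ (hOinv v hvO) (himg v hvv) with h3 | h3
      · rw [h3, eq_inv_of_mul_eq_one_right hB]
      · rw [h3, map_smul, smul_eq_mul, hvv, mul_zero, mul_zero] at hB
        exact absurd hB zero_ne_one
    have hd : LinearMap.det (τ h) = -1 := by
      rw [← LinearMap.det_toMatrix b3, Matrix.det_fin_three]
      have m0 : τ h (b3 0) = b3 0 := by rw [hb3]; exact ha
      have m1 : τ h (b3 1) = g • b3 2 := by rw [hb3]; exact h1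
      have m2 : τ h (b3 2) = g⁻¹ • b3 1 := by rw [hb3]; exact h2'
      simp only [LinearMap.toMatrix_apply, m0, m1, m2, map_smul, Module.Basis.repr_self,
        Finsupp.smul_single, smul_eq_mul, mul_one, Finsupp.single_apply]
      simp [hg0]
    rw [hdet] at hd
    exact h2 (by linear_combination hd)
  have hl0 : l ≠ 0 := fun h0 => hu0 (by rw [← tau_inv_tau τ h u, hl, h0, zero_smul, map_zero])
  have hv' : τ h v = l⁻¹ • v := by
    have hB := hiso h u v
    rw [hl, map_smul, LinearMap.smul_apply, smul_eq_mul, huv] at hB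
    rcases hisoO _ (hOinv v hvO) (himg v hvv) with h3 | h3
    · rw [h3, map_smul, smul_eq_mul, huu, mul_zero, mul_zero] at hB
      exact absurd hB zero_ne_one
    · rw [h3, eq_inv_of_mul_eq_one_right hB]
  have hl1 : l ≠ 1 := fun h1 => hh (b3.ext fun i => by
    rw [hb3]
    fin_cases i
    · simpa [e] using ha
    · simpa [e, h1] using hl
    · simpa [e, h1] using hv')
  have hset : fixLines τ B h = {K ∙ u, K ∙ v} := by
    ext ℓ
    constructor
    · rintro ⟨⟨w, hw0, hww, rfl⟩, hf⟩
      obtain ⟨μ, hμ⟩ := exists_eigen_of_fix τ hf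
      have hwO : w ∈ O := by
        show B a w = 0
        by_contra hne
        have g0 := hiso h a w
        rw [ha, hμ, map_smul, smul_eq_mul] at g0
        have hμ1 : μ = 1 := by
          have : (μ - 1) * B a w = 0 := by linear_combination g0
          exact sub_eq_zero.1 ((mul_eq_zero.1 this).resolve_right hne)
        subst hμ1
        rw [one_smul] at hμ
        have gu := hiso h u w
        rw [hl, hμ, map_smul, LinearMap.smul_apply, smul_eq_mul] at gu
        have gv := hiso h v w
        rw [hv', hμ, map_smul, LinearMap.smul_apply, smul_eq_mul] at gv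
        have zu : B u w = 0 := by
          have : (l - 1) * B u w = 0 := by linear_combination gu
          exact (mul_eq_zero.1 this).resolve_left (sub_ne_zero.2 hl1)
        have zv : B v w = 0 := by
          have : (l⁻¹ - 1) * B v w = 0 := by linear_combination gv
          exact (mul_eq_zero.1 this).resolve_left (sub_ne_zero.2 fun h1 => hl1 (inv_eq_one.1 h1))
        have e1 := hcoord w
        rw [zu, zv, zero_smul, zero_smul, add_zero, add_zero] at e1
        rw [e1] at hww
        simp only [map_smul, LinearMap.smul_apply, smul_eq_mul] at hww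
        rw [div_mul_cancel₀ _ haa] at hww
        exact hne ((mul_eq_zero.1 hww).resolve_left fun h0 => hne (by
          rwa [div_eq_zero_iff, or_iff_left haa] at h0))
      rcases hisoO w hwO hww with h1 | h1
      · left
        have : B v w ≠ 0 := fun h0 => hw0 (by rw [h1, h0, zero_smul])
        rw [h1, Submodule.span_singleton_smul_eq (Ne.isUnit this)]
      · right
        have : B u w ≠ 0 := fun h0 => hw0 (by rw [h1, h0, zero_smul])
        rw [h1, Submodule.span_singleton_smul_eq (Ne.isUnit this)]
        rfl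
    · rintro (rfl | rfl)
      · exact ⟨⟨u, hu0, huu, rfl⟩, fix_of_eigen τ hl0 hl⟩
      · exact ⟨⟨v, fun h0 => zero_ne_one (by rw [← huv, h0, map_zero]), hvv, rfl⟩,
          fix_of_eigen τ (inv_ne_zero hl0) hv'⟩
  rw [hset, Set.ncard_pair]
  intro he
  obtain ⟨c, hc⟩ := Submodule.mem_span_singleton.1 (he ▸ Submodule.mem_span_singleton_self u : u ∈ K ∙ v)
  have := congrArg (B v) hc
  rw [map_smul, hvv, smul_zero, hvu] at this
  exact zero_ne_one this

end Cfsg.Agent.SmallDegree
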