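import Cfsg.Agent.Lib.SmallDegree.Main
import Cfsg.Agent.Lib.SmallDegree.Reduction
import Cfsg.Agent.Lib.SmallDegree.Eigen
import Cfsg.Agent.Lib.PSL2.SylowPrime

/-!
# Faithful representations of degree `(p - 1) / 2`

If `p ≥ 5` divides `|G|` exactly once, the Sylow `p`-subgroup is not normal and `G` has a faithful
complex representation of degree `(p - 1) / 2`, then `G / Z(G) ≅ PSL(2, p)`.
-/

set_option autoImplicit false
set_option linter.style.haveILetI false

namespace Cfsg.Agent.SmallDegree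

open MulAction
open scoped Pointwise MatrixGroups

universe u

variable {G : Type u} [Group G] [Finite G] {p : ℕ} [hp : Fact p.Prime]

theorem exists_conj_mem {P : Subgroup G} (hP : Nat.card P = p) (hsq : ¬ p ^ 2 ∣ Nat.card G) {y : G}
    (hy : y ^ p = 1) : ∃ k : G, k⁻¹ * y * k ∈ P := by
  have hfac : (Nat.card G).factorization p = 1 := by
    have h1 : p ^ 1 ∣ Nat.card G := by
      rw [pow_one, ← hP]; exact Subgroup.card_subgroup_dvd_card P
    have a1 := (hp.out.pow_dvd_iff_le_factorization Nat.card_pos.ne').1 h1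
    have a2 : ¬ 2 ≤ (Nat.card G).factorization p := fun h =>
      hsq ((hp.out.pow_dvd_iff_le_factorization Nat.card_pos.ne').2 h)
    omega
  let S : Sylow p G := Sylow.ofCard P (by rw [hP, hfac, pow_one])
  have hyp : IsPGroup p (Subgroup.zpowers y) := fun z => by
    obtain ⟨j, hj⟩ := Subgroup.mem_zpowers_iff.1 z.2
    refine ⟨1, Subtype.ext ?_⟩
    rw [pow_one, SubgroupClass.coe_pow, ← hj, ← zpow_natCast (y ^ j), ← zpow_mul, mul_comm, zpow_mul,
      zpow_natCast, hy, one_zpow]
    rfl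
  obtain ⟨Q, hQ⟩ := hyp.exists_le_sylow
  obtain ⟨k, hk⟩ := MulAction.exists_smul_eq G Q S
  refine ⟨k⁻¹, ?_⟩
  have h1 : k * y * k⁻¹ ∈ (S : Subgroup G) := by
    rw [← hk]
    exact ⟨y, hQ (Subgroup.mem_zpowers y), by simp⟩
  rw [Sylow.coe_ofCard] at h1
  simpa using h1

theorem le_or_inf_eq_bot {P : Subgroup G} (hP : Nat.card P = p) (L : Subgroup G) :
    P ≤ L ∨ P ⊓ L = ⊥ := by
  rcases (Nat.dvd_prime hp.out).1 (hP ▸ Subgroup.card_dvd_of_le (inf_le_left : P ⊓ L ≤ P)) with h | h
  · exact Or.inr (Subgroup.eq_bot_of_card_eq _ h)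
  · exact Or.inl (inf_eq_left.1 (Subgroup.eq_of_le_of_card_ge inf_le_left (by rw [h, hP])))

omit [Finite G] in
omit hp in
theorem pow_eq_one_of_mem_order (P : Subgroup G) (hP : Nat.card P = p) :
    ∀ u ∈ P, u ^ p = 1 := fun u hu => by
  have := pow_card_eq_one' (x := (⟨u, hu⟩ : P))
  rw [hP] at this
  exact congrArg Subtype.val this

/-- The normal closure of a non-normal subgroup of order `p`. -/
theorem normalClosure_data {P : Subgroup G} (hP : Nat.card P = p) (hsq : ¬ p ^ 2 ∣ Nat.card G)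
    (hnn : ¬ P.Normal) :
    Nat.card (P.subgroupOf (Subgroup.normalClosure (P : Set G))) = p ∧
      ¬ p ^ 2 ∣ Nat.card (Subgroup.normalClosure (P : Set G)) ∧
      Subgroup.normalClosure ((P.subgroupOf (Subgroup.normalClosure (P : Set G)) :
        Subgroup (Subgroup.normalClosure (P : Set G))) : Set (Subgroup.normalClosure (P : Set G))) = ⊤ ∧
      ¬ (P.subgroupOf (Subgroup.normalClosure (P : Set G))).Normal := by
  set G0 := Subgroup.normalClosure (P : Set G) with hG0
  have hPG : P ≤ G0 := Subgroup.le_normalClosure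
  set P0 := P.subgroupOf G0
  have hP0 : Nat.card P0 = p := by
    rw [Nat.card_congr (Subgroup.subgroupOfEquivOfLe hPG).toEquiv, hP]
  have hsq0 : ¬ p ^ 2 ∣ Nat.card G0 := fun h => hsq (h.trans (Subgroup.card_subgroup_dvd_card G0))
  have hnorm : G0.Normal := Subgroup.normalClosure_normal
  have hconj : ∀ (g : G) (u : G) (hu : u ∈ P), ∃ k : G0,
      k⁻¹ * (⟨g * u * g⁻¹, hnorm.conj_mem u (hPG hu) g⟩ : G0) * k ∈ P0 := fun g u hu =>
    exists_conj_mem hP0 hsq0 (Subtype.ext (by
      show (g * u * g⁻¹) ^ p = 1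
      rw [conj_pow, pow_eq_one_of_mem_order P hP u hu, mul_one, mul_inv_cancel]))
  refine ⟨hP0, hsq0, ?_, fun hN => hnn ⟨fun u hu g => ?_⟩⟩
  · set M := Subgroup.normalClosure (P0 : Set G0)
    have hle : G0 ≤ M.map G0.subtype := by
      refine Subgroup.closure_le _ |>.2 ?_
      intro y hy
      obtain ⟨u, hu, hyu⟩ := Group.mem_conjugatesOfSet_iff.1 hy
      obtain ⟨g, rfl⟩ := isConj_iff.1 hyu
      obtain ⟨k, hk⟩ := hconj g u hu
      refine ⟨⟨g * u * g⁻¹, hnorm.conj_mem u (hPG hu) g⟩, ?_, rfl⟩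
      have h1 := (Subgroup.normalClosure_normal (s := (P0 : Set G0))).conj_mem _
        (Subgroup.subset_normalClosure hk) k
      simpa [mul_assoc] using h1
    rw [eq_top_iff]
    intro y _
    obtain ⟨z, hz, he⟩ := hle y.2
    rwa [← Subtype.ext he]
  · obtain ⟨k, hk⟩ := hconj g u hu
    have h1 := hN.conj_mem _ hk k
    have h2 : (⟨g * u * g⁻¹, hnorm.conj_mem u (hPG hu) g⟩ : G0) ∈ P0 := by
      simpa [mul_assoc] using h1
    exact h2

/-- The image on the conic of a small faithful complex representation. -/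
theorem exists_conic_of_complex {n : ℕ} (ρ : G →* Module.End ℂ (Fin n → ℂ))
    (hρ : Function.Injective ρ) (hn : 2 * n < p) {P : Subgroup G} (hP : Nat.card P = p)
    (hsq : ¬ p ^ 2 ∣ Nat.card G) (hgen : Subgroup.normalClosure (P : Set G) = ⊤) (hnn : ¬ P.Normal) :
    ∃ (H : Type) (_ : Group H) (_ : Finite H) (f : G →* H), Function.Surjective f ∧
      Nat.card (P.map f) = p ∧ ¬ (P.map f).Normal ∧
      Subgroup.centralizer ((P.map f : Subgroup H) : Set H) = P.map f ∧ ∃ k : ℕ, 1 ≤ k ∧
      (Subgroup.normalizer ((P.map f : Subgroup H) : Set H)).index = 1 + k * p ∧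
      1 + k * (p - 2) ∣ 2 * (Subgroup.centralizer ((P.map f : Subgroup H) : Set H)).relIndex
        (Subgroup.normalizer ((P.map f : Subgroup H) : Set H)) ∧
      0 < (Subgroup.centralizer ((P.map f : Subgroup H) : Set H)).relIndex
        (Subgroup.normalizer ((P.map f : Subgroup H) : Set H)) := by
  classical
  haveI : Fact (Nat.Prime (Nat.card P)) := ⟨hP.symm ▸ hp.out⟩
  haveI : IsCyclic P := isCyclic_of_prime_card rfl
  obtain ⟨x, hx⟩ := Subgroup.isCyclic_iff_exists_zpowers_eq_top P |>.1 inferInstance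
  let M : G →* Matrix (Fin n) (Fin n) ℂ :=
    ((LinearMap.toMatrixAlgEquiv' : Module.End ℂ (Fin n → ℂ) ≃ₐ[ℂ] _).toAlgHom.toMonoidHom.comp ρ)
  have hM : ∀ g, M g = 1 → g = 1 := fun g hg => hρ (by
    rw [map_one]
    apply (LinearMap.toMatrixAlgEquiv' : Module.End ℂ (Fin n → ℂ) ≃ₐ[ℂ] _).injective
    rw [map_one]
    exact hg)
  obtain ⟨K, iF, iA, iC, θ, hker⟩ := exists_reduction p M hM
  have hn0 : n ≠ 0 := by
    rintro rfl
    refine hnn ?_
    have htriv : ∀ g : G, g = 1 := fun g => hρ (LinearMap.ext fun v => Subsingleton.elim _ _)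
    exact ⟨fun u hu g => by rwa [htriv g, one_mul, inv_one, mul_one]⟩
  haveI : Nonempty (Fin n) := ⟨⟨0, Nat.pos_of_ne_zero hn0⟩⟩
  rcases exists_irreducible_or_unipotent (x := x) hx hgen _ (Fin n → K) θ rfl with
    ⟨U, i1, i2, i3, φ, h1, h2, h3⟩ | h
  · rw [Module.finrank_fin_fun] at h1
    exact exists_conic_image (by omega) φ h3 hP hsq hgen hx h2
  · exact absurd h (not_forall_unipotent hP hsq hnn θ hker _)

/-- A normal subgroup of order prime to `p` is centralised by `P`. -/
theorem commute_of_pprime_normal (h5 : 5 ≤ p) {n : ℕ} (ρ : G →* Module.End ℂ (Fin n → ℂ))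
    (hρ : Function.Injective ρ) (hn : 2 * n < p) {P : Subgroup G} (hP : Nat.card P = p)
    (hsq : ¬ p ^ 2 ∣ Nat.card G) (M : Subgroup G) [M.Normal] (hPM : P ⊓ M = ⊥) {u m : G}
    (hu : u ∈ P) (hm : m ∈ M) : u * m = m * u := by
  classical
  have key : ∀ g ∈ M, (∀ v ∈ P, g * v * g⁻¹ ∈ P) → ∀ v ∈ P, g * v = v * g := by
    intro g hg hgv v hv
    have h1 : g * v * g⁻¹ * v⁻¹ ∈ P ⊓ M := by
      refine Subgroup.mem_inf.2 ⟨mul_mem (hgv v hv) (inv_mem hv), ?_⟩
      rw [mul_assoc g v, mul_assoc g]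
      exact mul_mem hg (by simpa [mul_assoc] using (inferInstance : M.Normal).conj_mem _ (inv_mem hg) v)
    rw [hPM, Subgroup.mem_bot, mul_inv_eq_one] at h1
    exact mul_inv_eq_iff_eq_mul.1 h1
  set L := M ⊔ P with hL
  have hPL : P ≤ L := le_sup_right
  set PL := P.subgroupOf L
  have hPLc : Nat.card PL = p := by
    rw [Nat.card_congr (Subgroup.subgroupOfEquivOfLe hPL).toEquiv, hP]
  have hsqL : ¬ p ^ 2 ∣ Nat.card L := fun h => hsq (h.trans (Subgroup.card_subgroup_dvd_card L))
  by_cases hN : PL.Normal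
  · refine (key m hm (fun v hv => ?_) u hu).symm
    exact hN.conj_mem ⟨v, hPL hv⟩ hv ⟨m, Subgroup.mem_sup_left hm⟩
  exfalso
  obtain ⟨hc, hs, hg, hnn⟩ := normalClosure_data hPLc hsqL hN
  set L0 := Subgroup.normalClosure (PL : Set L)
  obtain ⟨H, _, _, f, hf, -, -, -, k, hk, -, hd, hpos⟩ := exists_conic_of_complex
    (ρ.comp (L.subtype.comp L0.subtype)) (hρ.comp (L.subtype_injective.comp L0.subtype_injective))
    hn hc hs hg hnn
  have h1 := relIndex_map_le (p := p) f hf hc hs
  have hone : (Subgroup.centralizer ((PL.subgroupOf L0 : Subgroup L0) : Set L0)).relIndex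
      (Subgroup.normalizer ((PL.subgroupOf L0 : Subgroup L0) : Set L0)) = 1 := by
    rw [Subgroup.relIndex_eq_one]
    intro g hgN
    rw [Subgroup.mem_centralizer_iff]
    intro v hv
    have hgv : ∀ w ∈ P, ((g : L) : G) * w * ((g : L) : G)⁻¹ ∈ P := fun w hw =>
      (Subgroup.mem_normalizer_iff.1 hgN
        ⟨⟨w, hPL hw⟩, Subgroup.le_normalClosure (show (⟨w, hPL hw⟩ : L) ∈ PL from hw)⟩).1 hw
    obtain ⟨a, ha, b, hb, hab⟩ := Subgroup.mem_sup_of_normal_left.1 (g : L).2
    have hcomm : ∀ v w : G, v ∈ P → w ∈ P → v * w = w * v := by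
      haveI : Fact (Nat.Prime (Nat.card P)) := ⟨hP.symm ▸ hp.out⟩
      haveI : IsCyclic P := isCyclic_of_prime_card rfl
      obtain ⟨x, hx⟩ := Subgroup.isCyclic_iff_exists_zpowers_eq_top P |>.1 inferInstance
      intro v w hv hw
      obtain ⟨i, rfl⟩ := exists_eq_pow hx hv
      obtain ⟨j, rfl⟩ := exists_eq_pow hx hw
      exact ((Commute.refl x).pow_pow i j).eq
    have hav : ∀ w ∈ P, a * w * a⁻¹ ∈ P := fun w hw => by
      have := hgv (b⁻¹ * w * b) (mul_mem (mul_mem (inv_mem hb) hw) hb)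
      rw [← hab] at this
      simpa [mul_assoc] using this
    refine Subtype.ext (Subtype.ext ?_)
    show ((v : L) : G) * ((g : L) : G) = ((g : L) : G) * ((v : L) : G)
    rw [← hab]
    calc ((v : L) : G) * (a * b) = ((v : L) : G) * a * b := (mul_assoc _ _ _).symm
      _ = a * ((v : L) : G) * b := congrArg (· * b) (key a ha hav _ hv).symm
      _ = a * (((v : L) : G) * b) := mul_assoc _ _ _
      _ = a * (b * ((v : L) : G)) := congrArg (a * ·) (hcomm _ _ hv hb)
      _ = a * b * ((v : L) : G) := (mul_assoc _ _ _).symm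
  rw [hone] at h1
  have h2 := Nat.le_of_dvd (by omega) hd
  have h3 : 1 * (p - 2) ≤ k * (p - 2) := Nat.mul_le_mul_right _ hk
  omega

/-- The main theorem. -/
theorem nonempty_quotient_center_iso_psl {n : ℕ} (ρ : G →* Module.End ℂ (Fin n → ℂ))
    (hρ : Function.Injective ρ) (hn : 2 * n + 1 = p) (h5 : 5 ≤ p) {P : Subgroup G}
    (hP : Nat.card P = p) (hsq : ¬ p ^ 2 ∣ Nat.card G) (hnn : ¬ P.Normal) :
    Nonempty ((G ⧸ Subgroup.center G) ≃* PSL(2, ZMod p)) := by
  classical
  obtain ⟨hP0, hsq0, hgen0, hnn0⟩ := normalClosure_data hP hsq hnn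
  set G0 := Subgroup.normalClosure (P : Set G) with hG0
  have hPG : P ≤ G0 := Subgroup.le_normalClosure
  haveI hnorm : G0.Normal := Subgroup.normalClosure_normal
  set P0 := P.subgroupOf G0
  set ρ0 := ρ.comp G0.subtype
  have hρ0 : Function.Injective ρ0 := hρ.comp G0.subtype_injective
  obtain ⟨H, _, _, q, hq, hPb, hnnb, hcent, k, hk, hindex, hd, hpos⟩ :=
    exists_conic_of_complex ρ0 hρ0 (by omega) hP0 hsq0 hgen0 hnn0
  haveI : Fact (Nat.Prime (Nat.card P)) := ⟨hP.symm ▸ hp.out⟩
  haveI : IsCyclic P := isCyclic_of_prime_card rfl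
  obtain ⟨x, hx⟩ := Subgroup.isCyclic_iff_exists_zpowers_eq_top P |>.1 inferInstance
  have hxP : x ∈ P := hx ▸ Subgroup.mem_zpowers x
  have hxord : orderOf x = p := by rw [← Nat.card_zpowers, hx, hP]
  have hρx : ρ x ≠ 1 := fun h => hp.out.ne_one (by
    rw [← hxord, hρ (h.trans (map_one ρ).symm), orderOf_one])
  set x0 : G0 := ⟨x, hPG hxP⟩
  have hx0 : Subgroup.zpowers x0 = P0 := by
    refine Subgroup.eq_of_le_of_card_ge (Subgroup.zpowers_le.2 hxP) ?_
    rw [hP0, Nat.card_zpowers, Subgroup.orderOf_mk, hxord]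
  -- the indices
  have hidxle := relIndex_map_le (p := p) q hq hP0 hsq0
  have hidx0 := relIndex_le_dim ρ0 hx0 hP0 hρx
  have hidxG := relIndex_le_dim ρ hx hP hρx
  set Pb := P0.map q with hPbdef
  set Nb := Subgroup.normalizer (Pb : Set H) with hNb
  set idxb := (Subgroup.centralizer (Pb : Set H)).relIndex Nb with hidxb
  set N0 := Subgroup.normalizer (P0 : Set G0) with hN0
  set C0 := Subgroup.centralizer (P0 : Set G0) with hC0
  have hd' := Nat.le_of_dvd (by omega) hd
  obtain rfl : k = 1 := by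
    by_contra hne
    have : 2 * (p - 2) ≤ k * (p - 2) := Nat.mul_le_mul_right _ (by omega)
    omega
  have hib : idxb = n := by omega
  have hi0 : C0.relIndex N0 = n := by omega
  rw [one_mul] at hindex
  -- only scalars commute with the normal closure
  have hcentral : ∀ c : G, (∀ g ∈ G0, c * g = g * c) → c ∈ Subgroup.center G := by
    intro c hc
    obtain ⟨a, ha⟩ := exists_smul_one_of_commute ρ0 hx0 hP0 hρx (by rw [hi0]) (ρ c) fun g => by
      show ρ c * ρ (g : G) = ρ (g : G) * ρ c
      rw [← map_mul, hc _ g.2, map_mul]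
    refine Subgroup.mem_center_iff.2 fun g => hρ ?_
    rw [map_mul, map_mul, ha, mul_smul_comm, smul_mul_assoc, mul_one, one_mul]
  have hcentgen : ∀ c : G, (∀ h ∈ G0, c * (h * x * h⁻¹) = (h * x * h⁻¹) * c) →
      ∀ g ∈ G0, c * g = g * c := by
    intro c hc g hg
    have hle : (⊤ : Subgroup G0) ≤ (Subgroup.centralizer {c}).comap G0.subtype := by
      rw [← hgen0]
      refine (Subgroup.closure_le _).2 fun y hy => ?_
      obtain ⟨u, hu, hyu⟩ := Group.mem_conjugatesOfSet_iff.1 hy
      obtain ⟨h, rfl⟩ := isConj_iff.1 hyu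
      obtain ⟨a, rfl⟩ := exists_eq_pow hx0 hu
      show ((h * x0 ^ a * h⁻¹ : G0) : G) ∈ Subgroup.centralizer {c}
      rw [Subgroup.mem_centralizer_singleton_iff, Subgroup.coe_mul, Subgroup.coe_mul,
        SubgroupClass.coe_pow, InvMemClass.coe_inv, ← conj_pow]
      exact ((show Commute c ((h : G) * x * (h : G)⁻¹) from hc h h.2).pow_right a).eq.symm
    exact (Subgroup.mem_centralizer_singleton_iff.1 (hle (Subgroup.mem_top ⟨g, hg⟩))).symm
  -- the kernel
  have hnormal : ∀ L : Subgroup G0, L.Normal → L = ⊤ ∨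
      (P0 ⊓ L = ⊥ ∧ ∀ m ∈ L, (m : G) ∈ Subgroup.center G) := by
    intro L hL
    rcases le_or_inf_eq_bot hP0 L with h | h
    · exact Or.inl (top_unique (hgen0 ▸ Subgroup.normalClosure_le_normal h))
    refine Or.inr ⟨h, fun m hm => hcentral _ (hcentgen _ fun g hg => ?_)⟩
    haveI := hL
    set g0 : G0 := ⟨g, hg⟩
    have h1 := commute_of_pprime_normal h5 ρ0 hρ0 (by omega) hP0 hsq0 L h (u := x0) hxP
      (hL.conj_mem m hm g0⁻¹)
    have h2 := congrArg (fun z : G0 => g * (z : G) * g⁻¹) h1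
    simp only [g0, x0, Subgroup.coe_mul, InvMemClass.coe_inv] at h2
    symm
    simpa [mul_assoc] using h2
  set M := q.ker with hM
  have hMtop : M ≠ ⊤ := fun h => by
    have : Pb = ⊥ := by
      rw [hPbdef, Subgroup.map_eq_bot_iff, ← hM, h]
      exact le_top
    rw [this, Subgroup.card_bot] at hPb
    exact hp.out.ne_one hPb.symm
  obtain ⟨hMP, hMZ⟩ := (hnormal M inferInstance).resolve_left hMtop
  -- the image is simple
  have hPbtop : Subgroup.normalClosure (Pb : Set H) = ⊤ := by
    rw [hPbdef, Subgroup.coe_map, ← Subgroup.map_normalClosure _ q hq, hgen0,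
      Subgroup.map_top_of_surjective q hq]
  have hcenterb : ∀ z : G0, (z : G) ∈ Subgroup.center G → q z = 1 := by
    intro z hz
    have hzc : ∀ w : H, q z * w = w * q z := fun w => by
      obtain ⟨g, rfl⟩ := hq w
      rw [← map_mul, ← map_mul]
      exact congrArg q (Subtype.ext (Subgroup.mem_center_iff.1 hz g).symm)
    have hmem : q z ∈ Pb := by
      rw [← hcent, Subgroup.mem_centralizer_iff]
      exact fun w _ => (hzc w).symm
    by_contra h1
    have hgenz : Subgroup.zpowers (q z) = Pb := Subgroup.eq_of_le_of_card_ge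
      (Subgroup.zpowers_le.2 hmem) (by
        rw [hPb, Nat.card_zpowers,
          orderOf_eq_prime (pow_eq_one_of_mem_order Pb hPb (q z) hmem) h1])
    refine hnnb ⟨fun w hw g => ?_⟩
    rw [← hgenz] at hw ⊢
    obtain ⟨j, rfl⟩ := Subgroup.mem_zpowers_iff.1 hw
    have hcj : g * q z ^ j = q z ^ j * g := ((show Commute g (q z) from (hzc g).symm).zpow_right j).eq
    rw [hcj, mul_inv_cancel_right]
    exact zpow_mem (Subgroup.mem_zpowers _) j
  haveI : Nontrivial H := by
    by_contra h
    rw [not_nontrivial_iff_subsingleton] at h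
    exact hnnb ⟨fun w hw g => by rwa [Subsingleton.elim (g * w * g⁻¹) w]⟩
  haveI hsimple : IsSimpleGroup H := ⟨fun L hL => by
    rcases hnormal (L.comap q) (hL.comap q) with h | ⟨-, h⟩
    · exact Or.inr (by rw [← Subgroup.map_comap_eq_self_of_surjective hq L, h,
        Subgroup.map_top_of_surjective q hq])
    · refine Or.inl ((Subgroup.eq_bot_iff_forall _).2 fun y hy => ?_)
      obtain ⟨g, rfl⟩ := hq y
      exact hcenterb g (h g hy)⟩
  -- the order and the recognition
  have hNbcard : Nat.card Nb = p * n := by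
    rw [← hib, ← hPb, hidxb, hcent, ← Subgroup.relIndex_bot_left, ← Subgroup.relIndex_bot_left,
      Subgroup.relIndex_mul_relIndex _ _ _ bot_le Subgroup.le_normalizer]
  have hHcard : Nat.card H = p * ((p + 1) * n) := by
    rw [← Subgroup.card_mul_index Nb, hNbcard, hindex, add_comm 1 p]; ring
  obtain ⟨iso⟩ := PSL2.Recog.psl_of_prime (G := H) h5 hHcard
    (by
      have e1 : p ^ 2 - 1 = (p + 1) * (p - 1) := by rw [← Nat.sq_sub_sq, one_pow]
      rw [e1, show p - 1 = 2 * n by omega]; ring)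
    (fun a ha hamod => by
      obtain ⟨b, hb⟩ := ha
      obtain ⟨c, hc⟩ : ∃ c, a = 1 + c * p := ⟨a / p, by
        have := Nat.div_add_mod a p; rw [hamod] at this; rw [mul_comm (a / p)]; omega⟩
      rcases c with _ | _ | c
      · exact Or.inl (by omega)
      · exact Or.inr (by omega)
      · exfalso
        have hbn : (p + 1) * n ≡ b [MOD p] := by
          rw [hb, hc, show (1 + (c + 1 + 1) * p) * b = b + (c + 1 + 1) * b * p by ring]
          exact Nat.add_mul_mod_self_right _ _ _
        have hbn' : n % p = b % p := by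
          have : (p + 1) * n ≡ n [MOD p] := by simp [Nat.ModEq, Nat.add_mul]
          exact this.symm.trans hbn
        have hlt : b < n := by
          by_contra hh
          push Not at hh
          have h1 : (1 + (c + 2) * p) * n ≤ a * b := hc ▸ Nat.mul_le_mul_left _ hh
          have h2 : (p + 1) * n < (1 + (c + 2) * p) * n :=
            Nat.mul_lt_mul_of_pos_right (by nlinarith) (by omega)
          omega
        rw [Nat.mod_eq_of_lt (by omega : n < p), Nat.mod_eq_of_lt (by omega : b < p)] at hbn'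
        omega)
    (ZMod.card p)
  -- the action on the conjugates of `P`
  have hfac : (Nat.card G).factorization p = 1 := by
    have h1 : p ^ 1 ∣ Nat.card G := by rw [pow_one, ← hP]; exact Subgroup.card_subgroup_dvd_card P
    have a1 := (hp.out.pow_dvd_iff_le_factorization Nat.card_pos.ne').1 h1
    have a2 : ¬ 2 ≤ (Nat.card G).factorization p := fun h =>
      hsq ((hp.out.pow_dvd_iff_le_factorization Nat.card_pos.ne').2 h)
    omega
  let P' : Sylow p G := Sylow.ofCard P (by rw [hP, hfac, pow_one])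
  have hP' : (P' : Subgroup G) = P := Sylow.coe_ofCard _ _
  have hnormP : ∀ g : G, g * x * g⁻¹ ∈ P → g ∈ Subgroup.normalizer (P : Set G) := fun g hg => by
    rw [Subgroup.mem_normalizer_iff_map_conj_eq, ← hx, MonoidHom.map_zpowers]
    refine Subgroup.eq_of_le_of_card_ge (Subgroup.zpowers_le.2 ?_) (le_of_eq ?_)
    · rw [hx]; exact hg
    · rw [Nat.card_zpowers, Nat.card_zpowers]
      exact (orderOf_injective (MulAut.conj g).toMonoidHom (MulAut.conj g).injective x).symm
  have hN0iff : ∀ g : G0, g ∈ N0 ↔ (g : G) ∈ Subgroup.normalizer (P : Set G) := by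
    intro g
    constructor
    · intro hg
      exact hnormP _ ((Subgroup.mem_normalizer_iff.1 hg x0).1 hxP)
    · intro hg
      exact Subgroup.mem_normalizer_iff.2 fun y => Subgroup.mem_normalizer_iff.1 hg (y : G)
  have hfix : ∀ g : G, g • P' = P' ↔ g ∈ Subgroup.normalizer (P : Set G) := fun g => by
    rw [Sylow.smul_eq_iff_mem_normalizer]
    show g ∈ Subgroup.normalizer ((P' : Subgroup G) : Set G) ↔ _
    rw [hP']
  have htrans : ∀ Q : Sylow p G, ∃ g : G0, (g : G) • P' = Q := by
    intro Q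
    obtain ⟨g, rfl⟩ := exists_smul_eq G P' Q
    obtain ⟨h, hh⟩ := exists_conj_mem hP0 hsq0 (y := ⟨g * x * g⁻¹, hnorm.conj_mem _ (hPG hxP) g⟩)
      (Subtype.ext (by
        show (g * x * g⁻¹) ^ p = 1
        rw [conj_pow, ← hxord, pow_orderOf_eq_one, mul_one, mul_inv_cancel]))
    refine ⟨h, ?_⟩
    have h1 : (h : G)⁻¹ * g ∈ Subgroup.normalizer (P : Set G) := hnormP _ (by
      simpa [P0, Subgroup.mem_subgroupOf, mul_assoc] using hh)
    conv_lhs => rw [← (hfix _).2 h1]
    rw [← mul_smul, mul_inv_cancel_left]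
  have hN0comap : N0 = Nb.comap q := by
    ext g
    constructor
    · intro hg
      rw [Subgroup.mem_comap, hNb, Subgroup.mem_normalizer_iff_map_conj_eq, hPbdef, Subgroup.map_map,
        show (MulAut.conj (q g) : H →* H).comp q =
          q.comp (MulAut.conj g : G0 →* G0) from MonoidHom.ext fun y => by simp,
        ← Subgroup.map_map, Subgroup.mem_normalizer_iff_map_conj_eq.1 hg]
    · intro hg
      rw [hN0iff]
      refine hnormP _ ?_
      obtain ⟨u, hu, hue⟩ := (Subgroup.mem_normalizer_iff.1 hg (q x0)).1 ⟨x0, hxP, rfl⟩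
      set m := u⁻¹ * (g * x0 * g⁻¹)
      have hm : m ∈ M := by
        rw [hM, MonoidHom.mem_ker]
        simp only [m, map_mul, map_inv, hue, inv_mul_cancel]
      have hup : u ^ p = 1 := pow_eq_one_of_mem_order P0 hP0 u hu
      have hmc := hMZ m hm
      have hmp : m ^ p = 1 := by
        have hum : Commute u m := Subtype.ext (Subgroup.mem_center_iff.1 hmc u)
        have h1 : (u * m) ^ p = 1 := by
          rw [show u * m = g * x0 * g⁻¹ by simp [m], conj_pow, pow_eq_one_of_mem_order P0 hP0 x0 hxP,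
            mul_one, mul_inv_cancel]
        rwa [hum.mul_pow, hup, one_mul] at h1
      have hm1 : m = 1 := by
        obtain ⟨a, ha⟩ := exists_conj_mem hP0 hsq0 hmp
        have h2 : a⁻¹ * m * a = 1 := by
          rw [← Subgroup.mem_bot, ← hMP]
          exact Subgroup.mem_inf.2 ⟨ha, by
            simpa using (inferInstance : M.Normal).conj_mem m hm a⁻¹⟩
        calc m = a * (a⁻¹ * m * a) * a⁻¹ := by group
          _ = 1 := by rw [h2]; group
      have he : g * x0 * g⁻¹ = u := (inv_mul_eq_one.1 hm1).symm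
      have : (g * x0 * g⁻¹ : G0) ∈ P0 := he ▸ hu
      exact this
  have hnS : Nat.card (Sylow p G) = Nat.card (P' : Subgroup G) + 1 := by
    rw [hP', hP]
    haveI : IsPretransitive G0 (Sylow p G) := ⟨fun a b => by
      obtain ⟨g, rfl⟩ := htrans a
      obtain ⟨h, rfl⟩ := htrans b
      exact ⟨h * g⁻¹, by
        show ((h * g⁻¹ : G0) : G) • ((g : G) • P') = _
        rw [Subgroup.coe_mul, InvMemClass.coe_inv, mul_smul, inv_smul_smul]⟩⟩
    have hst : stabilizer G0 P' = N0 := by
      ext g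
      rw [mem_stabilizer_iff, hN0iff, ← hfix]
      rfl
    rw [← index_stabilizer_of_transitive G0 P', hst, hN0comap,
      Subgroup.index_comap_of_surjective _ hq, hindex, add_comm]
  have hcomm' : ∀ u ∈ (P' : Subgroup G), u ≠ 1 → ∀ g : G, g * u = u * g →
      ∀ v ∈ (P' : Subgroup G), g * v = v * g := by
    rw [hP']
    intro u hu hu1 g hg v hv
    have hzu : Subgroup.zpowers u = P := Subgroup.eq_of_le_of_card_ge (Subgroup.zpowers_le.2 hu)
      (by rw [hP, Nat.card_zpowers, orderOf_eq_prime (pow_eq_one_of_mem_order P hP u hu) hu1])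
    obtain ⟨a, rfl⟩ := exists_eq_pow hzu hv
    exact ((show Commute g u from hg).pow_right a).eq
  -- elements fixing every conjugate
  set K0 : Subgroup G0 := (MulAction.toPermHom G0 (Sylow p G)).ker with hK0
  have hK0q : ∀ g : G0, (∀ Q : Sylow p G, (g : G) • Q = Q) → q g = 1 := by
    intro g hg
    have hgK : g ∈ K0 := by
      rw [hK0, MonoidHom.mem_ker]
      exact Equiv.ext fun Q => hg Q
    haveI : (K0.map q).Normal := (MonoidHom.normal_ker _).map q hq
    rcases (inferInstance : (K0.map q).Normal).eq_bot_or_eq_top with h | h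
    · exact (Subgroup.mem_bot).1 (h ▸ Subgroup.mem_map_of_mem q hgK)
    · exfalso
      have hle : K0.map q ≤ Nb := by
        rintro _ ⟨y, hy, rfl⟩
        show y ∈ Nb.comap q
        rw [← hN0comap, hN0iff, ← hfix]
        exact congrArg (fun e : Equiv.Perm (Sylow p G) => e P') (MonoidHom.mem_ker.1 hy)
      exact hnnb (Subgroup.normalizer_eq_top_iff.1 (top_unique (h ▸ hle)))
  -- `G = G0 Z(G)`
  have hgen : ∀ g : G, ∃ g0 : G0, (g0 : G)⁻¹ * g ∈ Subgroup.center G := by
    intro g
    obtain ⟨g1, hg1⟩ := htrans (g • P')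
    have hg' : (g1 : G)⁻¹ * g ∈ Subgroup.normalizer (P : Set G) := by
      rw [← hfix, mul_smul, inv_smul_eq_iff, hg1]
    set N := Subgroup.normalizer (P : Set G)
    set C := Subgroup.centralizer (P : Set G)
    let e := Subgroup.quotientSubgroupOfEmbeddingOfLE C (inf_le_left : N ⊓ G0 ≤ N)
    have hcard : Nat.card ((N ⊓ G0 : Subgroup G) ⧸ C.subgroupOf (N ⊓ G0)) = n := by
      change C.relIndex (N ⊓ G0) = n
      have h1 : N ⊓ G0 = N0.map G0.subtype := by
        ext y
        constructor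
        · rintro ⟨hy, hy0⟩
          exact ⟨⟨y, hy0⟩, (hN0iff _).2 hy, rfl⟩
        · rintro ⟨y, hy, rfl⟩
          exact ⟨(hN0iff _).1 hy, y.2⟩
      have h2 : C.comap G0.subtype = C0 := by
        ext y
        simp only [Subgroup.mem_comap, C, hC0, Subgroup.mem_centralizer_iff]
        constructor
        · exact fun h u hu => Subtype.ext (h _ hu)
        · exact fun h u hu => congrArg Subtype.val (h ⟨u, hPG hu⟩ hu)
      rw [h1, ← Subgroup.relIndex_comap, h2, hi0]
    have hbij : Function.Bijective e := (Nat.bijective_iff_injective_and_card e).2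
      ⟨e.injective, le_antisymm (Nat.card_le_card_of_injective e e.injective)
        (hcard.symm ▸ hidxG)⟩
    obtain ⟨c0, hc0⟩ := hbij.2 (QuotientGroup.mk (⟨_, hg'⟩ : N))
    induction c0 using QuotientGroup.induction_on with
    | H h =>
    rw [Subgroup.quotientSubgroupOfEmbeddingOfLE_apply_mk, QuotientGroup.eq] at hc0
    obtain ⟨hN', hG0'⟩ := h.2
    set c := (h : G)⁻¹ * ((g1 : G)⁻¹ * g) with hc
    have hcC : c ∈ C := hc0
    have hcx : x * c = c * x := Subgroup.mem_centralizer_iff.1 hcC x hxP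
    have hcP : c • P' = P' := (hfix _).2 (Subgroup.centralizer_le_normalizer _ hcC)
    obtain ⟨Q, hQ⟩ : ∃ Q : Sylow p G, Q ≠ P' := by
      by_contra hh
      push Not at hh
      haveI : Subsingleton (Sylow p G) := ⟨fun a b => (hh a).trans (hh b).symm⟩
      have h1 := Finite.card_le_one_iff_subsingleton.2 ‹Subsingleton (Sylow p G)›
      rw [hnS, hP', hP] at h1
      omega
    have hcQ : c • Q ≠ P' := fun hh => hQ (smul_left_cancel c (hh.trans hcP.symm))
    obtain ⟨u, hu, huQ⟩ := PSL2.Recog.exists_smul_other P' hnS hcomm' hQ hcQ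
    have huP : u ∈ P := hP' ▸ hu
    set c' := u⁻¹ * c with hc'
    have hc'all : ∀ S : Sylow p G, c' • S = S := by
      intro S
      by_cases hS : S = P'
      · rw [hS, hc', mul_smul, hcP, (hfix _).2 (Subgroup.le_normalizer (inv_mem huP))]
      obtain ⟨v, hv, rfl⟩ := PSL2.Recog.exists_smul_other P' hnS hcomm' hQ hS
      have hvP : v ∈ P := hP' ▸ hv
      obtain ⟨a, rfl⟩ := exists_eq_pow hx hvP
      obtain ⟨b, hb⟩ := exists_eq_pow hx (inv_mem huP)
      have e1 : Commute c' (x ^ a) := by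
        refine (Commute.mul_left ?_ ?_)
        · rw [hb]; exact (Commute.refl x).pow_pow b a
        · exact (show Commute c x from hcx.symm).pow_right a
      rw [← mul_smul, e1.eq, mul_smul, hc', mul_smul, ← huQ, inv_smul_smul]
    have hc'x : Commute c' x := by
      refine Commute.mul_left ?_ hcx.symm
      obtain ⟨b, hb⟩ := exists_eq_pow hx (inv_mem huP)
      rw [hb]; exact (Commute.refl x).pow_left b
    have hc'Z : c' ∈ Subgroup.center G := hcentral _ (hcentgen _ fun y hy => by
      set z : G0 := ⟨c' * y * c'⁻¹ * y⁻¹, mul_mem (hnorm.conj_mem y hy c') (inv_mem hy)⟩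
      have hz : (z : G) ∈ Subgroup.center G := hMZ z (hK0q z fun Q => by
        show (c' * y * c'⁻¹ * y⁻¹) • Q = Q
        rw [mul_smul, mul_smul, mul_smul, hc'all]
        conv_lhs => rw [← hc'all (y⁻¹ • Q), inv_smul_smul, smul_inv_smul])
      have e2 : c' * y = (z : G) * y * c' := by
        show c' * y = c' * y * c'⁻¹ * y⁻¹ * y * c'
        group
      have hzx : Commute (z : G) x := (Subgroup.mem_center_iff.1 hz x).symm
      calc c' * (y * x * y⁻¹) = (c' * y) * x * y⁻¹ := by group
        _ = (z : G) * y * (c' * x) * y⁻¹ := by rw [e2]; group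
        _ = (z : G) * (y * x * y⁻¹) * (y * c' * y⁻¹) := by rw [hc'x.eq]; group
        _ = (y * x * y⁻¹) * ((z : G) * y * c' * y⁻¹) := by
            rw [← (Subgroup.mem_center_iff.1 hz (y * x * y⁻¹))]; group
        _ = (y * x * y⁻¹) * c' := by rw [← e2]; group)
    refine ⟨g1 * ⟨h, hG0'⟩ * ⟨u, hPG huP⟩, ?_⟩
    convert hc'Z using 1
    simp only [c', c, Subgroup.coe_mul]
    group
  -- conclusion
  let ψ : G0 →* G ⧸ Subgroup.center G := (QuotientGroup.mk' _).comp G0.subtype
  have hψ : Function.Surjective ψ := fun y => by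
    induction y using QuotientGroup.induction_on with
    | H g =>
      obtain ⟨g0, hg0⟩ := hgen g
      exact ⟨g0, QuotientGroup.eq.2 hg0⟩
  have hkerψ : ψ.ker = q.ker := by
    ext z
    rw [MonoidHom.mem_ker, MonoidHom.mem_ker]
    show QuotientGroup.mk (z : G) = 1 ↔ _
    rw [QuotientGroup.eq_one_iff]
    exact ⟨hcenterb z, fun h => hMZ z h⟩
  exact ⟨((QuotientGroup.quotientKerEquivOfSurjective ψ hψ).symm.trans
    ((QuotientGroup.quotientMulEquivOfEq hkerψ).trans
      (QuotientGroup.quotientKerEquivOfSurjective q hq))).trans iso⟩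

end Cfsg.Agent.SmallDegree
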