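import Mathlib.FieldTheory.Finite.Basic
import Mathlib.RingTheory.Nilpotent.Basic
import Mathlib.RingTheory.Ideal.Quotient.Operations
import Mathlib.Algebra.Polynomial.AlgebraMap
import Mathlib.Algebra.CharP.Algebra
import Mathlib.Tactic.Module
import Mathlib.Data.Nat.Prime.Factorial

/-!
# Truncated exponential and the weight-one part of a unipotent element in characteristic `p`

* `wOne z = - ∑ c⁻¹ z ^ c` and `tExp E = ∑ E ^ j / j!`, `j, c < p`;
* `tExp_wOne`: `tExp (wOne z) = z` when `(z - 1) ^ l = 0` with `l ≤ p`;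
* `wOne_pow_eq`: `wOne z ^ l = 0`, `wOne z ^ n = (z - 1) ^ n` for `l = n + 1`;
* `tExp_mul_eq`: conjugation by `tExp E` on an element killed by three brackets with `E`.
-/

set_option autoImplicit false
set_option linter.style.haveILetI false

namespace Cfsg.Agent.SmallDegree

open Finset

universe v w

variable (K : Type v) [Field K] (p : ℕ) [hp : Fact p.Prime] [CharP K p]
variable {A : Type w} [Ring A] [Algebra K A]

/-- The weight-one part of a unipotent element. -/
def wOne (z : A) : A := -∑ c ∈ range p, ((c : K))⁻¹ • z ^ c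

/-- The exponential series cut at `p`. -/
def tExp (E : A) : A := ∑ j ∈ range p, ((j.factorial : K))⁻¹ • E ^ j

theorem fact_ne_zero {j : ℕ} (hj : j < p) : ((j.factorial : K)) ≠ 0 := fun h => by
  have := (CharP.cast_eq_zero_iff K p _).1 h
  rw [Nat.Prime.dvd_factorial hp.out] at this
  omega

omit [CharP K p] in
theorem cast_lt_ne_zero [CharP K p] {j : ℕ} (h0 : j ≠ 0) (hj : j < p) : ((j : K)) ≠ 0 := fun h => by
  have := Nat.le_of_dvd (Nat.pos_of_ne_zero h0) ((CharP.cast_eq_zero_iff K p _).1 h)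
  omega

omit [CharP K p] in
theorem tExp_zero : tExp K p (0 : A) = 1 := by
  rw [tExp, sum_eq_single 0 (fun j _ hj => by rw [zero_pow hj, smul_zero])
    (fun h => absurd (mem_range.2 hp.out.pos) h)]
  simp

theorem tExp_add (E : A) {l : ℕ} (hE : E ^ l = 0) (hl : l ≤ p) (a b : K) :
    tExp K p (a • E) * tExp K p (b • E) = tExp K p ((a + b) • E) := by
  have h0 : ∀ i, p ≤ i → E ^ i = 0 := fun i hi => pow_eq_zero_of_le (hl.trans hi) hE
  let F : ℕ → ℕ → A := fun i j =>
    ((i.factorial : K)⁻¹ * a ^ i * ((j.factorial : K)⁻¹ * b ^ j)) • E ^ (i + j)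
  have hL : tExp K p (a • E) * tExp K p (b • E) = ∑ i ∈ range p, ∑ j ∈ range p, F i j := by
    rw [tExp, tExp, sum_mul_sum]
    refine sum_congr rfl fun i _ => sum_congr rfl fun j _ => ?_
    rw [smul_pow, smul_pow, smul_smul, smul_smul, smul_mul_smul_comm, ← pow_add]
  have hR : tExp K p ((a + b) • E) = ∑ r ∈ range p, ∑ i ∈ range (r + 1), F i (r - i) := by
    rw [tExp]
    refine sum_congr rfl fun r hr => ?_
    rw [smul_pow, smul_smul, add_pow, mul_sum, sum_smul]
    refine sum_congr rfl fun i hi => ?_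
    have hir : i ≤ r := by have := mem_range.1 hi; omega
    have hr' := mem_range.1 hr
    show _ = ((i.factorial : K)⁻¹ * a ^ i * (((r - i).factorial : K)⁻¹ * b ^ (r - i))) • E ^ (i + (r - i))
    rw [Nat.add_sub_cancel' hir]
    congr 1
    have h1 : ((r.choose i : K)) * (i.factorial : K) * ((r - i).factorial : K) = (r.factorial : K) := by
      rw [← Nat.cast_mul, ← Nat.cast_mul, Nat.choose_mul_factorial_mul_factorial hir]
    have := fact_ne_zero K p hr'
    have := fact_ne_zero K p (j := i) (by omega)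
    have := fact_ne_zero K p (j := r - i) (by omega)
    field_simp
    rw [← h1]
    ring
  rw [hL, hR, ← sum_product', sum_sigma']
  symm
  refine sum_bij_ne_zero (fun x _ _ => (x.2, x.1 - x.2)) (fun x hx _ => ?_) (fun x hx _ y hy _ h => ?_)
    (fun b hb hne => ?_) (fun x _ _ => rfl)
  · obtain ⟨h1, h2⟩ := mem_sigma.1 hx
    have := mem_range.1 h1
    have := mem_range.1 h2
    exact mem_product.2 ⟨mem_range.2 (by omega), mem_range.2 (by omega)⟩
  · obtain ⟨r, i⟩ := x
    obtain ⟨s, j⟩ := y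
    obtain ⟨-, h2⟩ := mem_sigma.1 hx
    obtain ⟨-, h4⟩ := mem_sigma.1 hy
    have := mem_range.1 h2
    have := mem_range.1 h4
    simp only [Prod.mk.injEq] at h
    obtain ⟨rfl, h⟩ := h
    have hrs : r = s := by simp only at *; omega
    subst hrs
    rfl
  · refine ⟨⟨b.1 + b.2, b.1⟩, ?_, ?_, ?_⟩
    · refine mem_sigma.2 ⟨mem_range.2 ?_, mem_range.2 (by simp only; omega)⟩
      by_contra hge
      exact hne (by show _ • E ^ (b.1 + b.2) = 0; rw [h0 _ (not_lt.1 hge), smul_zero])
    · simpa using hne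
    · simp

theorem tExp_pow (E : A) {l : ℕ} (hE : E ^ l = 0) (hl : l ≤ p) (c : ℕ) :
    tExp K p E ^ c = tExp K p ((c : K) • E) := by
  induction c with
  | zero => rw [pow_zero, Nat.cast_zero, zero_smul, tExp_zero]
  | succ c ih =>
    rw [pow_succ, ih]
    conv_lhs => arg 2; rw [← one_smul K E]
    rw [tExp_add K p E hE hl, Nat.cast_succ]

theorem sum_range_eq_sum_zmod (f : K → K) :
    ∑ c ∈ range p, f (c : K) = ∑ c : ZMod p, f (ZMod.castHom dvd_rfl K c) := by
  refine sum_bij' (fun c _ => (c : ZMod p)) (fun c _ => c.val) (fun _ _ => mem_univ _)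
    (fun c _ => mem_range.2 (ZMod.val_lt c)) (fun c hc => ?_) (fun c _ => ZMod.natCast_zmod_val c)
    (fun c _ => by rw [map_natCast])
  rw [ZMod.val_natCast, Nat.mod_eq_of_lt (mem_range.1 hc)]

/-- The power sums `∑ c⁻¹ c ^ j`. -/
theorem sum_inv_mul_pow {j : ℕ} (hj : j < p) (hp2 : p ≠ 2) :
    ∑ c ∈ range p, ((c : K))⁻¹ * (c : K) ^ j = if j = 1 then -1 else 0 := by
  rw [sum_range_eq_sum_zmod K p (fun x => x⁻¹ * x ^ j)]
  have h3 : 2 < p := lt_of_le_of_ne hp.out.two_le (Ne.symm hp2)
  have e : ∀ c : ZMod p, (ZMod.castHom dvd_rfl K c)⁻¹ * (ZMod.castHom dvd_rfl K c) ^ j =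
      ZMod.castHom dvd_rfl K (c⁻¹ * c ^ j) := fun c => by rw [map_mul, map_inv₀, map_pow]
  simp only [e, ← map_sum]
  rcases j with _ | _ | j
  · have : ∑ c : ZMod p, c⁻¹ * c ^ 0 = ∑ c : ZMod p, c ^ 1 :=
      Fintype.sum_equiv (Equiv.inv (ZMod p)) _ _ fun c => by simp
    rw [this, FiniteField.sum_pow_lt_card_sub_one _ _ (by rw [ZMod.card]; omega), map_zero, if_neg (by omega)]
  · have : ∑ c : ZMod p, c⁻¹ * c ^ 1 = -1 := by
      rw [← Finset.add_sum_erase _ _ (mem_univ (0 : ZMod p))]
      simp only [pow_one, inv_zero, zero_mul, zero_add]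
      rw [sum_congr rfl fun c hc => inv_mul_cancel₀ (ne_of_mem_erase hc), sum_const,
        card_erase_of_mem (mem_univ _), card_univ, ZMod.card, nsmul_eq_mul, mul_one,
        Nat.cast_sub hp.out.one_le, ZMod.natCast_self, Nat.cast_one, zero_sub]
    rw [this, if_pos rfl, map_neg, map_one]
  · have : ∀ c : ZMod p, c⁻¹ * c ^ (j + 2) = c ^ (j + 1) := fun c => by
      rcases eq_or_ne c 0 with rfl | hc
      · simp
      · rw [pow_succ' c (j + 1), inv_mul_cancel_left₀ hc]
    simp only [this]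
    rw [FiniteField.sum_pow_lt_card_sub_one _ _ (by rw [ZMod.card]; omega), map_zero, if_neg (by omega)]

theorem wOne_tExp (E : A) {l : ℕ} (hE : E ^ l = 0) (hl : l ≤ p) (hp2 : p ≠ 2) :
    wOne K p (tExp K p E) = E := by
  rw [wOne]
  have : ∀ c : ℕ, ((c : K))⁻¹ • tExp K p E ^ c =
      ∑ j ∈ range p, (((c : K))⁻¹ * (c : K) ^ j) • ((j.factorial : K)⁻¹ • E ^ j) := fun c => by
    rw [tExp_pow K p E hE hl c, tExp, smul_sum]
    refine sum_congr rfl fun j _ => ?_
    rw [smul_pow, smul_smul, smul_smul, smul_smul]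
    congr 1
    ring
  simp only [this]
  rw [sum_comm]
  simp only [← sum_smul]
  rw [sum_eq_single 1 (fun j hj hj1 => by rw [sum_inv_mul_pow K p (mem_range.1 hj) hp2, if_neg hj1, zero_smul])
    (fun h => absurd (mem_range.2 hp.out.one_lt) h)]
  rw [sum_inv_mul_pow K p hp.out.one_lt hp2, if_pos rfl]
  simp

theorem sum_inv (hp2 : p ≠ 2) : ∑ c ∈ range p, ((c : K))⁻¹ = 0 := by
  simpa using sum_inv_mul_pow K p (j := 0) hp.out.pos hp2

/-- `wOne z = (z - 1) (1 + (z - 1) u)`. -/
theorem wOne_eq (z : A) (hp2 : p ≠ 2) :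
    ∃ u : A, Commute (z - 1) u ∧ wOne K p z = (z - 1) * (1 + (z - 1) * u) := by
  set y := z - 1 with hy
  have hz : ∀ c : ℕ, z ^ c = 1 + (c : K) • y + y * y * ∑ i ∈ range c, ∑ j ∈ range i, z ^ j := by
    intro c
    induction c with
    | zero => simp
    | succ c ih =>
      have hg : z ^ c = 1 + y * ∑ j ∈ range c, z ^ j := by rw [mul_geom_sum, add_sub_cancel]
      rw [pow_succ', show z = 1 + y by rw [hy, add_sub_cancel], add_mul, one_mul, ← show z = 1 + y by rw [hy, add_sub_cancel],
        sum_range_succ (fun i => ∑ j ∈ range i, z ^ j) c, Nat.cast_succ, add_smul, one_smul]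
      conv_lhs => arg 2; rw [hg]
      conv_lhs => arg 1; rw [ih]
      rw [mul_add, mul_one, mul_add (y * y), ← mul_assoc y y]
      abel
  refine ⟨-∑ c ∈ range p, ((c : K))⁻¹ • ∑ i ∈ range c, ∑ j ∈ range i, z ^ j, ?_, ?_⟩
  · refine (Commute.sum_right _ _ _ fun c _ => Commute.smul_right ?_ _).neg_right
    refine Commute.sum_right _ _ _ fun i _ => Commute.sum_right _ _ _ fun j _ => ?_
    exact ((Commute.refl z).sub_left (Commute.one_left z)).pow_right j
  · rw [wOne]
    rw [sum_congr rfl (fun c _ => by rw [hz c]) (s₁ := range p)]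
    simp only [smul_add, sum_add_distrib, smul_smul, ← mul_smul_comm, ← mul_sum]
    have h1 : ∑ c ∈ range p, ((c : K))⁻¹ • (1 : A) = 0 := by rw [← sum_smul, sum_inv K p hp2, zero_smul]
    have h2 : ∑ c ∈ range p, (((c : K))⁻¹ * (c : K)) • y = -y := by
      rw [← sum_smul]
      have := sum_inv_mul_pow K p (j := 1) hp.out.one_lt hp2
      simp only [pow_one, if_pos] at this
      rw [this, neg_smul, one_smul]
    rw [h1, h2, zero_add, mul_add, mul_one, mul_neg, mul_neg, ← mul_assoc]
    abel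

theorem wOne_pow_eq (z : A) (hp2 : p ≠ 2) {n : ℕ} (hz : (z - 1) ^ (n + 1) = 0) :
    wOne K p z ^ (n + 1) = 0 ∧ wOne K p z ^ n = (z - 1) ^ n := by
  obtain ⟨u, hu, he⟩ := wOne_eq K p z hp2
  set y := z - 1
  have hc : Commute y (1 + y * u) := (Commute.one_right y).add_right ((Commute.refl y).mul_right hu)
  refine ⟨by rw [he, hc.mul_pow, hz, zero_mul], ?_⟩
  rw [he, hc.mul_pow]
  have : ∀ i : ℕ, y ^ n * (1 + y * u) ^ i = y ^ n := fun i => by
    induction i with
    | zero => rw [pow_zero, mul_one]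
    | succ i ih => rw [pow_succ, ← mul_assoc, ih, mul_add, mul_one, ← mul_assoc, ← pow_succ, hz, zero_mul, add_zero]
  exact this n

theorem tExp_wOne_comm {B : Type*} [CommRing B] [Algebra K B] (z : B) (hp2 : p ≠ 2) {l : ℕ}
    (hz : (z - 1) ^ l = 0) (hl : l ≤ p) : tExp K p (wOne K p z) = z := by
  set E := wOne K p z with hEdef
  have hE : E ^ l = 0 := by
    obtain ⟨u, -, he⟩ := wOne_eq K p z hp2
    rw [hEdef, he, mul_pow, hz, zero_mul]
  set X := tExp K p E
  set Y := tExp K p ((-1 : K) • E)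
  have hXY : X * Y = 1 := by
    have := tExp_add K p E hE hl 1 (-1)
    rwa [one_smul, add_neg_cancel, zero_smul, tExp_zero] at this
  have hnX : IsNilpotent (X - 1) := by
    have h0 : X = 1 + E * ∑ j ∈ range (p - 1), (((j + 1).factorial : K))⁻¹ • E ^ j := by
      show tExp K p E = _
      rw [tExp, show p = p - 1 + 1 by have := hp.out.pos; omega, sum_range_succ']
      simp only [Nat.factorial_zero, Nat.cast_one, inv_one, pow_zero, one_smul, mul_sum,
        Nat.add_sub_cancel]
      rw [add_comm]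
      congr 1
      exact sum_congr rfl fun j _ => by rw [mul_smul_comm, pow_succ']
    rw [h0, add_sub_cancel_left]
    exact ⟨l, by rw [mul_pow, hE, zero_mul]⟩
  set r := z * Y - 1 with hr
  have hzr : z = X * (1 + r) := by rw [hr, add_sub_cancel, ← mul_assoc, mul_comm X z, mul_assoc, hXY, mul_one]
  have hnr : IsNilpotent r := by
    have : r = Y * ((z - 1) - (X - 1)) := by
      rw [hr, sub_sub_sub_cancel_right, mul_sub, mul_comm Y z, mul_comm Y X, hXY]
    rw [this]
    exact (Commute.all _ _).isNilpotent_mul_left ((Commute.all _ _).isNilpotent_sub ⟨l, hz⟩ hnX)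
  set s := ∑ c ∈ range p, ((c : K))⁻¹ • (X ^ c * ∑ i ∈ range c, (1 + r) ^ i) with hs
  have h0 : r * s = 0 := by
    have h1 : E = -∑ c ∈ range p, ((c : K))⁻¹ • (X ^ c * (1 + r) ^ c) := by
      simp only [← mul_pow, ← hzr]
      rfl
    have h2 : E = -∑ c ∈ range p, ((c : K))⁻¹ • X ^ c := (wOne_tExp K p E hE hl hp2).symm
    have h3 : ∀ c : ℕ, r * ∑ i ∈ range c, (1 + r) ^ i = (1 + r) ^ c - 1 := fun c => by
      rw [← mul_geom_sum, add_sub_cancel_left]
    rw [hs, mul_sum]
    simp only [mul_smul_comm, mul_left_comm r, h3, mul_sub, mul_one, smul_sub, sum_sub_distrib]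
    rw [sub_eq_zero]
    exact neg_injective (h1.symm.trans h2)
  have hs1 : IsNilpotent (s + 1) := by
    have h1 : ∑ c ∈ range p, ((c : K))⁻¹ • ((c : K) • (1 : B)) = -1 := by
      have := sum_inv_mul_pow K p (j := 1) hp.out.one_lt hp2
      simp only [pow_one, if_pos] at this
      simp only [smul_smul, ← sum_smul]
      rw [this, neg_smul, one_smul]
    have h2 : s + 1 = ∑ c ∈ range p, ((c : K))⁻¹ • (X ^ c * ∑ i ∈ range c, (1 + r) ^ i - (c : K) • 1) := by
      simp only [smul_sub, sum_sub_distrib]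
      rw [h1, hs, sub_neg_eq_add]
    rw [h2]
    refine isNilpotent_sum fun c _ => ?_
    refine IsNilpotent.smul ?_ _
    have hmem : ∀ {a : B}, IsNilpotent a ↔ a ∈ nilradical B := fun {a} => mem_nilradical.symm
    rw [hmem, ← Ideal.Quotient.eq_zero_iff_mem]
    have e1 : Ideal.Quotient.mk (nilradical B) X = 1 := by
      rw [← sub_eq_zero, ← map_one (Ideal.Quotient.mk (nilradical B)), ← map_sub,
        Ideal.Quotient.eq_zero_iff_mem]
      exact hmem.1 hnX
    have e2 : Ideal.Quotient.mk (nilradical B) r = 0 := Ideal.Quotient.eq_zero_iff_mem.2 (hmem.1 hnr)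
    rw [map_sub, map_mul, map_pow, e1, one_pow, one_mul, map_sum]
    simp [e2, Nat.cast_smul_eq_nsmul]
  have hu : IsUnit s := by
    have := hs1.isUnit_sub_one
    rwa [add_sub_cancel_right] at this
  have hr0 : r = 0 := (hu.mul_left_eq_zero).1 h0
  rw [hzr, hr0, add_zero, mul_one]

open Polynomial in
theorem tExp_wOne (z : A) (hp2 : p ≠ 2) {l : ℕ} (hz : (z - 1) ^ l = 0) (hl : l ≤ p) :
    tExp K p (wOne K p z) = z := by
  let I : Ideal K[X] := Ideal.span {((X : K[X]) - 1) ^ l}
  let φ : (K[X] ⧸ I) →ₐ[K] A := Ideal.Quotient.liftₐ I (aeval z) (fun a ha => by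
    obtain ⟨b, rfl⟩ := Ideal.mem_span_singleton'.1 ha
    rw [map_mul, map_pow, map_sub, map_one, aeval_X, hz, mul_zero])
  let x : K[X] ⧸ I := Ideal.Quotient.mk I X
  have hφ : φ x = z := aeval_X z
  have h := tExp_wOne_comm K p (B := K[X] ⧸ I) x hp2 (l := l) (by
    rw [← map_one (Ideal.Quotient.mk I), ← map_sub, ← map_pow, Ideal.Quotient.eq_zero_iff_mem]
    exact Ideal.mem_span_singleton_self _) hl
  have h2 := congrArg φ h
  simp only [tExp, wOne, map_sum, map_smul, map_pow, map_neg, hφ] at h2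
  exact h2

omit [CharP K p] in
theorem tExp_eq_of_le (E : A) {l m : ℕ} (hE : E ^ l = 0) (hl : l ≤ m) (hm : m ≤ p) :
    ∑ j ∈ range m, ((j.factorial : K))⁻¹ • E ^ j = tExp K p E := by
  refine sum_subset (range_mono hm) fun j _ hj => ?_
  rw [pow_eq_zero_of_le (hl.trans (not_lt.1 fun h => hj (mem_range.2 h))) hE, smul_zero]

/-- Conjugation by the exponential on an element killed by three brackets. -/
theorem tExp_mul_eq (E : A) {l : ℕ} (hE : E ^ l = 0) (hl : l + 2 ≤ p) (hp2 : p ≠ 2) {Y D D' : A}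
    (h1 : E * Y = Y * E + D) (h2 : E * D = D * E + D') (h3 : E * D' = D' * E) :
    tExp K p E * Y = (Y + D + (2 : K)⁻¹ • D') * tExp K p E := by
  have hj : ∀ j : ℕ, E ^ j * Y = Y * E ^ j + (j : K) • (D * E ^ (j - 1)) +
      ((j.choose 2 : ℕ) : K) • (D' * E ^ (j - 2)) := by
    intro j
    induction j with
    | zero => simp
    | succ j ih =>
      rw [pow_succ', mul_assoc, ih, mul_add, mul_add, ← mul_assoc E Y, h1, add_mul, mul_assoc Y,
        ← pow_succ', mul_smul_comm, ← mul_assoc E D, h2, add_mul, mul_smul_comm, ← mul_assoc E D', h3,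
        mul_assoc D, mul_assoc D', smul_add]
      rcases j with _ | _ | j
      · simp
      · simp only [Nat.choose_self, Nat.choose_eq_zero_of_lt (show 1 < 2 by norm_num), Nat.cast_ofNat]
        norm_num [add_smul, two_smul]
        abel
      · rw [Nat.choose_succ_succ' (j + 2) 1, Nat.choose_one_right]
        simp only [Nat.add_sub_cancel, show j + 2 - 1 = j + 1 by omega, show j + 2 - 2 = j by omega,
          show j + 2 + 1 - 2 = j + 1 by omega, ← pow_succ']
        push_cast
        module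
  have hX1 := tExp_eq_of_le K p E hE (show l ≤ p - 1 by omega) (by omega)
  have hX2 := tExp_eq_of_le K p E hE (show l ≤ p - 2 by omega) (by omega)
  rw [tExp, sum_mul]
  simp only [smul_mul_assoc, hj, smul_add, sum_add_distrib, ← mul_smul_comm]
  rw [← mul_sum, add_mul, add_mul]
  congr 1
  · congr 1
    rw [← mul_sum, ← tExp, ← hX1]
    congr 1
    conv_lhs => rw [show range p = range (p - 1 + 1) by rw [show p - 1 + 1 = p by omega]]
    rw [sum_range_succ']
    simp only [Nat.cast_zero, zero_smul, smul_zero, add_zero]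
    refine sum_congr rfl fun j hj' => ?_
    rw [Nat.add_sub_cancel, smul_smul, Nat.factorial_succ, Nat.cast_mul]
    congr 1
    have := cast_lt_ne_zero K p (j := j + 1) (by omega) (by have := mem_range.1 hj'; omega)
    field_simp
  · rw [← mul_sum, ← tExp, ← hX2, smul_mul_assoc, ← mul_smul_comm, smul_sum]
    congr 1
    conv_lhs => rw [show range p = range (p - 2 + 1 + 1) by rw [show p - 2 + 1 + 1 = p by omega]]
    rw [sum_range_succ', sum_range_succ']
    simp only [zero_add, Nat.choose_zero_succ, Nat.choose_eq_zero_of_lt (show 1 < 2 by norm_num),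
      Nat.cast_zero, zero_smul, smul_zero, add_zero]
    refine sum_congr rfl fun j hj' => ?_
    rw [smul_smul, smul_smul, show j + 1 + 1 - 2 = j by omega]
    congr 1
    have hf := fact_ne_zero K p (j := j + 1 + 1) (by have := mem_range.1 hj'; omega)
    have hf' := fact_ne_zero K p (j := j) (by have := mem_range.1 hj'; omega)
    have h20 := cast_lt_ne_zero K p (j := 2) two_ne_zero (by have := hp.out.two_le; omega)
    have hnat : (j + 1 + 1).choose 2 * 2 * j.factorial = (j + 1 + 1).factorial := by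
      have := Nat.choose_mul_factorial_mul_factorial (show 2 ≤ j + 1 + 1 by omega)
      rwa [show j + 1 + 1 - 2 = j by omega, Nat.factorial_two] at this
    have hK : (((j + 1 + 1).choose 2 : ℕ) : K) * ((2 : ℕ) : K) * (j.factorial : K) =
        ((j + 1 + 1).factorial : K) := by rw [← Nat.cast_mul, ← Nat.cast_mul, hnat]
    push_cast at hK h20
    field_simp
    rw [← hK]

end Cfsg.Agent.SmallDegree
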